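import Cfsg.Agent.SimpleFacts.TrialitySubfield.Rigid

/-!
The fixed points of the field map in a triality twisted group form a maximal subgroup.
-/

set_option autoImplicit false
set_option linter.unusedSectionVars false

namespace Cfsg.Agent.SimpleFacts.TrialitySubfield

open Cfsg.Lie Cfsg.Agent.Chevalley Cfsg.Agent.Chevalley.Table Cfsg.Agent.Chevalley.Cert
  Cfsg.Agent.Chevalley.Group Cfsg.Agent.Chevalley.Borel
  Cfsg.Agent.Chevalley.FieldAut Cfsg.Agent.SimpleFacts.ChevalleySubfield
  Cfsg.Agent.SimpleFacts.SubfieldOvergroup Cfsg.Agent.Chevalley.Twist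
  Cfsg.Agent.Chevalley.Twist.D4

attribute [local irreducible] P eA eC eD eN xg

variable {K : Type*} [Field K] [Fintype K] {q : ℕ} {hK : Fintype.card K = q ^ 3}

local notation "Xr" => xg (F := K) hC

variable (X : Setup (K := K) hK) (θ : K →+* K) (hθ : ∀ t, θ t = t ^ q) (hq : IsPrimePow q)
  {H : Subgroup (GL chevD4.Idx K)}

include X hθ hq

/-- An overgroup without further short root elements consists of fixed elements. -/
theorem fixed_of_param (hH : Over θ q H) (hV : ∀ t, eA θ t ∈ H → θ t = t) {g : GL chevD4.Idx K}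
    (hg : g ∈ H) : Fixed chevD4 θ g := by
  obtain ⟨hb, ha, ⟨-, -, -, b9, b23, -⟩, ⟨-, -, a22, a1⟩⟩ := long_ok
  obtain ⟨-, -, ⟨b14, -, b1, -, -, -⟩, ⟨-, a9, -, -⟩⟩ := long_ok
  let Ok : ℕ → Prop := fun r => ∀ g ∈ H, ∀ l : K, θ l = l → Fixed chevD4 θ (g * Xr r l * g⁻¹)
  have h23 : Ok 23 := fun g hg l hl => fixed_conj_highest X θ hθ hH hV hq hg hl
  have step : ∀ {L : List ℕ} (_ : ∀ i ∈ L, i < chevD4.rank) (_ : nL hC K L ∈ H) {r r' : ℕ}
      (_ : r < 24) (_ : wL chevD4 L r = r') (_ : etaW L r = 1 ∨ etaW L r = -1), Ok r → Ok r' := by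
    intro L hL hn r r' hr e he h g hg l hl
    have hf := h (g * nL hC K L) (mul_mem hg hn) ((etaW L r : K) * l)
      (by rw [map_mul, (cast_sign θ he).2, hl])
    rwa [xg_of_conj hL hr e he l, ← conj_mul_eq]
  have hnb := nb_mem_H X θ hθ hH
  have hna := na_mem_H X θ hθ hH
  have h22 : Ok 22 := step hLb hnb (by decide) b23 (hb 23 (by simp)).2 h23
  have h14 : Ok 14 := step hLa hna (by decide) a22 (ha 22 (by simp)).2 h22
  have h9 : Ok 9 := step hLb hnb (by decide) b14 (hb 14 (by simp)).2 h14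
  have h1 : Ok 1 := step hLa hna (by decide) a9 (ha 9 (by simp)).2 h9
  have h0 : Ok 0 := step hLb hnb (by decide) b1 (hb 1 (by simp)).2 h1
  have hgT := hH.le hg
  have hd : g⁻¹ * mapGL chevD4 θ g = 1 := by
    refine eq_one_of_commute X θ hθ hq (mul_mem (inv_mem hgT) (map_twisted θ hθ hgT)) ?_ ?_
    · intro r hr l hl
      have hok : Ok r := by
        simp only [List.mem_cons, List.not_mem_nil, or_false] at hr
        rcases hr with rfl | rfl | rfl | rfl | rfl | rfl
        exacts [h14, h22, h23, h9, h1, h0]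
      exact commute_of_fixed_conj θ (fixed_xg hC θ hl) (hok g hg l hl)
    · have hA := eA_fixed_mem X θ hθ hH (map_one θ)
      have hf := h14 (g * eA θ 1) (mul_mem hg hA) 1 (map_one θ)
      have ei : (eA θ (1 : K))⁻¹ = eA θ (-1) := inv_eq_of_mul_eq_one_right (by
        rw [eA_add, add_neg_cancel, eA_zero])
      have hx : Fixed chevD4 θ (eA θ 1 * Xr 14 1 * eA θ (-1)) :=
        Fixed.mul θ (Fixed.mul θ (fixed_eA θ (map_one θ)) (fixed_xg hC θ (map_one θ)))
          (fixed_eA θ (by simp))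
      refine commute_of_fixed_conj θ hx ?_
      rw [← ei, ← conj_mul_eq]
      exact hf
  rw [inv_mul_eq_one] at hd
  exact hd.symm

/-- A subgroup containing the fixed points is the fixed points or everything. -/
theorem over_cases (hH : Over θ q H) :
    (∀ g, g ∈ H ↔ g ∈ twistedD4 K q ∧ Fixed chevD4 θ g) ∨ H = twistedD4 K q := by
  by_cases hne : H = twistedD4 K q
  · exact Or.inr hne
  refine Or.inl fun g => ⟨fun hg => ⟨hH.le hg, ?_⟩, fun h => hH.ge g h.1 h.2⟩
  exact fixed_of_param X θ hθ hq hH (fun t ht => eq_or_param X θ hθ hH hq.two_le hne ht) hg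

omit X in
include hθ in
/-- Some element of the twisted group is not fixed. -/
theorem exists_not_fixed (hK' : Fintype.card K = q ^ 3) :
    ∃ g ∈ twistedD4 K q, ¬ Fixed chevD4 θ g := by
  obtain ⟨t, ht⟩ : ∃ t : K, θ t ≠ t := by
    by_contra hcon
    have hcon' : ∀ t : K, t ^ q = t := fun t => by
      by_contra h; exact hcon ⟨t, by rw [hθ]; exact h⟩
    have h1 := card_powfix hq.two_le hK'
    rw [Nat.card_congr (Equiv.subtypeUnivEquiv hcon'), Nat.card_eq_fintype_card, hK'] at h1
    have h2 : q ^ 1 < q ^ 3 := Nat.pow_lt_pow_right hq.two_le (by decide)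
    rw [pow_one] at h2
    omega
  refine ⟨eA θ t, eA_mem θ hθ t, fun h => ht ?_⟩
  rw [Fixed, map_eA] at h
  have h1 : form θ 0 (θ t) 0 0 0 0 = form θ 0 t 0 0 0 0 := by
    simp only [form, xg_zero hC, eC_zero, eD_zero, one_mul, h]
  exact (form_inj θ h1).2.1

end Cfsg.Agent.SimpleFacts.TrialitySubfield
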