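import Cfsg.Agent.SimpleFacts.TrialitySubfield.Monomials
import Cfsg.Agent.Lib.Chevalley.Twist.AutD4

/-!
Membership in a triality twisted group and the coordinates of its unipotent group.
-/

set_option autoImplicit false
set_option linter.unusedSimpArgs false
set_option linter.unusedSectionVars false

namespace Cfsg.Agent.SimpleFacts.TrialitySubfield

open Cfsg.Lie Cfsg.Agent.Chevalley Cfsg.Agent.Chevalley.Table Cfsg.Agent.Chevalley.Cert
  Cfsg.Agent.Chevalley.Group Cfsg.Agent.Chevalley.Unip Cfsg.Agent.Chevalley.Borel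
  Cfsg.Agent.Chevalley.Weyl Cfsg.Agent.Chevalley.NormalForm Cfsg.Agent.Chevalley.FieldAut
  Cfsg.Agent.SimpleFacts.ChevalleySubfield Cfsg.Agent.SimpleFacts.SubfieldOvergroup
  Cfsg.Agent.Chevalley.Twist Cfsg.Agent.Chevalley.Twist.D4

attribute [local irreducible] P

variable {K : Type*} [Field K]

local notation "Xr" => xg (F := K) hC
local notation "nb" => nL hC K [1]
local notation "na" => nL hC K [3, 2, 0]

variable [Fintype K] {q : ℕ} {hK : Fintype.card K = q ^ 3} (X : Setup (K := K) hK) (θ : K →+* K)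
  (hθ : ∀ t, θ t = t ^ q)

/-- The long roots fixed by the triality. -/
abbrev longs : List ℕ := [14, 22, 23, 9, 1, 0]

theorem longs_lt : ∀ r ∈ longs, r < 24 := by decide

include hθ in
theorem cube (hK : Fintype.card K = q ^ 3) (t : K) : θ (θ (θ t)) = t := θ3 θ hK hθ t

include hθ in
theorem eA_mem (t : K) : eA θ t ∈ twistedD4 K q := by
  have e : eA θ t = wordGL hC [(d4p1, t), (d4p3, t ^ q), (d4p4, t ^ (q ^ 2))] := by
    simp only [eA, wordGL, List.map_cons, List.map_nil, List.prod_cons, List.prod_nil, mul_one,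
      mul_assoc, hθ, ← pow_mul, sq, d4p1, d4p3, d4p4]
  rw [e]
  exact wordGL_mem (Or.inr ⟨t, (d4p1, d4p3, d4p4), by simp, rfl⟩)

include hθ in
theorem eN_mem (t : K) : eN θ t ∈ twistedD4 K q := by
  have e : eN θ t = wordGL hC [(d4m1, t), (d4m3, t ^ q), (d4m4, t ^ (q ^ 2))] := by
    simp only [eN, wordGL, List.map_cons, List.map_nil, List.prod_cons, List.prod_nil, mul_one,
      mul_assoc, hθ, ← pow_mul, sq, d4m1, d4m3, d4m4]
  rw [e]
  exact wordGL_mem (Or.inr ⟨t, (d4m1, d4m3, d4m4), by simp, rfl⟩)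

include hθ in
theorem x14_mem {s : K} (hs : θ s = s) : Xr 14 s ∈ twistedD4 K q := by
  have e : Xr 14 s = wordGL hC [(d4p2, s)] := by simp [wordGL, d4p2]
  rw [e]
  exact wordGL_mem (Or.inl ⟨s, by rw [← hθ, hs], d4p2, by simp, rfl⟩)

include hθ in
theorem x9_mem {s : K} (hs : θ s = s) : Xr 9 s ∈ twistedD4 K q := by
  have e : Xr 9 s = wordGL hC [(d4m2, s)] := by simp [wordGL, d4m2]
  rw [e]
  exact wordGL_mem (Or.inl ⟨s, by rw [← hθ, hs], d4m2, by simp, rfl⟩)

include X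

theorem nb_mem : nb ∈ twistedD4 K q := by
  have h0 := nL_mem_K X.O X.gen X.π_eq (hOr X) (k0 X)
  rw [show X.O.J 0 = [1] from X.J_eq 0] at h0
  exact h0

theorem na_mem : na ∈ twistedD4 K q := by
  have h1 := nL_mem_K X.O X.gen X.π_eq (hOr X) (k1 X)
  rw [show X.O.J 1 = [3, 2, 0] from X.J_eq 1] at h1
  exact h1

omit X in
theorem conj_mem {G : Type*} [Group G] {H : Subgroup G} {g x : G} (hg : g ∈ H) (hx : x ∈ H) :
    g * x * g⁻¹ ∈ H :=
  mul_mem (mul_mem hg hx) (inv_mem hg)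

include hθ in
theorem eC_mem (t : K) : eC θ t ∈ twistedD4 K q := by
  rw [← nb_conj_A]; exact conj_mem (nb_mem X) (eA_mem θ hθ t)

include hθ in
theorem eD_mem (t : K) : eD θ t ∈ twistedD4 K q := by
  rw [← na_conj_C]; exact conj_mem (na_mem X) (eC_mem X θ hθ t)

omit X in
theorem long_ok : (∀ r ∈ longs, wL chevD4 [1] r ∈ longs ∧
      (etaW [1] r = 1 ∨ etaW [1] r = -1)) ∧
    (∀ r ∈ longs, wL chevD4 [3, 2, 0] r ∈ longs ∧
      (etaW [3, 2, 0] r = 1 ∨ etaW [3, 2, 0] r = -1)) ∧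
    (wL chevD4 [1] 14 = 9 ∧ wL chevD4 [1] 22 = 23 ∧ wL chevD4 [1] 1 = 0 ∧ wL chevD4 [1] 9 = 14 ∧
      wL chevD4 [1] 23 = 22 ∧ wL chevD4 [1] 0 = 1) ∧
    (wL chevD4 [3, 2, 0] 14 = 22 ∧ wL chevD4 [3, 2, 0] 9 = 1 ∧ wL chevD4 [3, 2, 0] 22 = 14 ∧
      wL chevD4 [3, 2, 0] 1 = 9) := by
  decide +kernel

omit X [Fintype K] in
theorem cast_sign {e : ℤ} (h : e = 1 ∨ e = -1) :
    (e : K) * e = 1 ∧ θ (e : K) = e := by
  rcases h with rfl | rfl <;> simp

omit X in
/-- Conjugation moves a root element to the root element of the image root. -/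
theorem xg_of_conj {L : List ℕ} (hL : ∀ i ∈ L, i < chevD4.rank) {r r' : ℕ} (hr : r < 24)
    (e : wL chevD4 L r = r') (he : etaW L r = 1 ∨ etaW L r = -1) (s : K) :
    Xr r' s = nL hC K L * Xr r ((etaW L r : K) * s) * (nL hC K L)⁻¹ := by
  rw [nL_conj_eta hL (lt24 hr), e, ← mul_assoc, (cast_sign (RingHom.id K) he).1, one_mul]

include hθ in
theorem long_mem : ∀ r ∈ longs, ∀ {s : K}, θ s = s → Xr r s ∈ twistedD4 K q := by
  obtain ⟨hb, ha, ⟨b14, b22, b1, -, -, -⟩, ⟨a14, a9, -, -⟩⟩ := long_ok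
  have step : ∀ {L : List ℕ} (_ : ∀ i ∈ L, i < chevD4.rank) (_ : nL hC K L ∈ twistedD4 K q)
      {r r' : ℕ} (_ : r < 24) (_ : wL chevD4 L r = r') (_ : etaW L r = 1 ∨ etaW L r = -1),
      (∀ {s : K}, θ s = s → Xr r s ∈ twistedD4 K q) →
      ∀ {s : K}, θ s = s → Xr r' s ∈ twistedD4 K q := by
    intro L hL hn r r' hr e he h s hs
    rw [xg_of_conj hL hr e he s]
    exact conj_mem hn (h (by rw [map_mul, (cast_sign θ he).2, hs]))
  have h14 : ∀ {s : K}, θ s = s → Xr 14 s ∈ twistedD4 K q := fun hs => x14_mem θ hθ hs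
  have h22 : ∀ {s : K}, θ s = s → Xr 22 s ∈ twistedD4 K q :=
    step hLa (na_mem X) (by decide) a14 (ha 14 (by simp)).2 h14
  have h23 : ∀ {s : K}, θ s = s → Xr 23 s ∈ twistedD4 K q :=
    step hLb (nb_mem X) (by decide) b22 (hb 22 (by simp)).2 h22
  have h9 : ∀ {s : K}, θ s = s → Xr 9 s ∈ twistedD4 K q := fun hs => x9_mem θ hθ hs
  have h1 : ∀ {s : K}, θ s = s → Xr 1 s ∈ twistedD4 K q :=
    step hLa (na_mem X) (by decide) a9 (ha 9 (by simp)).2 h9
  have h0 : ∀ {s : K}, θ s = s → Xr 0 s ∈ twistedD4 K q :=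
    step hLb (nb_mem X) (by decide) b1 (hb 1 (by simp)).2 h1
  intro r hr
  simp only [List.mem_cons, List.not_mem_nil, or_false] at hr
  rcases hr with rfl | rfl | rfl | rfl | rfl | rfl
  exacts [h14, h22, h23, h9, h1, h0]

include hθ in
theorem form_mem {b a c d e f : K} (hb : θ b = b) (he : θ e = e) (hf : θ f = f) :
    form θ b a c d e f ∈ twistedD4 K q :=
  mul_mem (mul_mem (mul_mem (mul_mem (mul_mem (long_mem X θ hθ 14 (by simp) hb)
    (long_mem X θ hθ 22 (by simp) he)) (long_mem X θ hθ 23 (by simp) hf)) (eC_mem X θ hθ c))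
    (eD_mem X θ hθ d)) (eA_mem θ hθ a)

omit X in
theorem form_mem_U (b a c d e f : K) : form θ b a c d e f ∈ chevD4.posUnipotent K :=
  mul_mem (mul_mem (mul_mem (mul_mem (mul_mem (mem_posU (by simp) b) (mem_posU (by simp) e))
    (mem_posU (by simp) f)) (eC_mem_U θ c)) (eD_mem_U θ d)) (eA_mem_U θ a)

include hθ in
/-- The coordinates of an element of the unipotent group of the twisted group. -/
theorem exists_unip_form (hq : IsPrimePow q) {u : GL chevD4.Idx K}
    (hu : u ∈ chevD4.posUnipotent K) (huK : u ∈ twistedD4 K q) :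
    ∃ b a c d e f : K, θ b = b ∧ θ e = e ∧ θ f = f ∧ u = form θ b a c d e f := by
  classical
  let E := E₀ q θ
  let ψ : E × K × K × K × E × E → ↥(chevD4.posUnipotent K ⊓ twistedD4 K q) := fun x =>
    ⟨form θ x.1 x.2.1 x.2.2.1 x.2.2.2.1 x.2.2.2.2.1 x.2.2.2.2.2,
      form_mem_U θ _ _ _ _ _ _, form_mem X θ hθ (θE θ _) (θE θ _) (θE θ _)⟩
  have hinj : Function.Injective ψ := fun x y h => by
    obtain ⟨h1, h2, h3, h4, h5, h6⟩ := form_inj θ (congrArg Subtype.val h)
    exact Prod.ext (Subtype.ext h1) (Prod.ext h2 (Prod.ext h3 (Prod.ext h4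
      (Prod.ext (Subtype.ext h5) (Subtype.ext h6)))))
  have hE : Nat.card E = q := by
    rw [← card_powfix hq.two_le hK]
    exact Nat.card_congr (Equiv.subtypeEquivRight fun t => by
      show θ t = t ↔ _
      rw [hθ])
  have hcard : Nat.card (E × K × K × K × E × E) =
      Nat.card ↥(chevD4.posUnipotent K ⊓ twistedD4 K q) := by
    simp only [Nat.card_prod, hE, Nat.card_eq_fintype_card (α := K), hK]
    rw [card_U X hq]
    ring
  obtain ⟨x, hx⟩ := ((Nat.bijective_iff_injective_and_card ψ).2 ⟨hinj, hcard⟩).2 ⟨u, hu, huK⟩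
  exact ⟨_, _, _, _, _, _, θE θ _, θE θ _, θE θ _, (congrArg Subtype.val hx).symm⟩

include hθ in
/-- A long root element of the twisted group has a fixed parameter. -/
theorem long_param (hq : IsPrimePow q) : ∀ r ∈ longs, ∀ {s : K},
    Xr r s ∈ twistedD4 K q → θ s = s := by
  obtain ⟨hb, ha, ⟨-, -, -, b9, b23, b0⟩, ⟨-, -, -, a1⟩⟩ := long_ok
  have pos : ∀ {r : ℕ}, r ∈ [14, 22, 23] → ∀ {s : K}, Xr r s ∈ twistedD4 K q → θ s = s := by
    intro r hr s hs
    simp only [List.mem_cons, List.not_mem_nil, or_false] at hr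
    have hU : Xr r s ∈ chevD4.posUnipotent K :=
      mem_posU (by rcases hr with rfl | rfl | rfl <;> simp) _
    obtain ⟨b, a, c, d, e, f, hb', he', hf', eu⟩ := exists_unip_form X θ hθ hq hU hs
    rcases hr with rfl | rfl | rfl
    · have h1 : form θ s 0 0 0 0 0 = form θ b a c d e f := by
        rw [← eu]; simp [form, eA_zero, eC_zero, eD_zero, xg_zero hC]
      rwa [(form_inj θ h1).1]
    · have h1 : form θ 0 0 0 0 s 0 = form θ b a c d e f := by
        rw [← eu]; simp [form, eA_zero, eC_zero, eD_zero, xg_zero hC]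
      rwa [(form_inj θ h1).2.2.2.2.1]
    · have h1 : form θ 0 0 0 0 0 s = form θ b a c d e f := by
        rw [← eu]; simp [form, eA_zero, eC_zero, eD_zero, xg_zero hC]
      rwa [(form_inj θ h1).2.2.2.2.2]
  have step : ∀ {L : List ℕ} (_ : ∀ i ∈ L, i < chevD4.rank) (_ : nL hC K L ∈ twistedD4 K q)
      {r r' : ℕ} (_ : r < 24) (_ : wL chevD4 L r = r') (_ : etaW L r = 1 ∨ etaW L r = -1),
      (∀ {s : K}, Xr r' s ∈ twistedD4 K q → θ s = s) →
      ∀ {s : K}, Xr r s ∈ twistedD4 K q → θ s = s := by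
    intro L hL hn r r' hr e he h s hs
    have h1 := h (s := (etaW L r : K) * s) (by
      rw [← e, ← nL_conj_eta hL (lt24 hr)]; exact conj_mem hn hs)
    rw [map_mul, (cast_sign θ he).2] at h1
    have h2 := congrArg ((etaW L r : K) * ·) h1
    simpa only [← mul_assoc, (cast_sign θ he).1, one_mul] using h2
  have h14 : ∀ {s : K}, Xr 14 s ∈ twistedD4 K q → θ s = s := pos (by simp)
  have h9 : ∀ {s : K}, Xr 9 s ∈ twistedD4 K q → θ s = s :=
    step hLb (nb_mem X) (by decide) b9 (hb 9 (by simp)).2 h14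
  have h1 : ∀ {s : K}, Xr 1 s ∈ twistedD4 K q → θ s = s :=
    step hLa (na_mem X) (by decide) a1 (ha 1 (by simp)).2 h9
  have h0 : ∀ {s : K}, Xr 0 s ∈ twistedD4 K q → θ s = s :=
    step hLb (nb_mem X) (by decide) b0 (hb 0 (by simp)).2 h1
  intro r hr
  simp only [List.mem_cons, List.not_mem_nil, or_false] at hr
  rcases hr with rfl | rfl | rfl | rfl | rfl | rfl
  exacts [h14, pos (by simp), pos (by simp), h9, h1, h0]

omit X in
include hθ in
/-- The field map preserves the twisted group. -/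
theorem map_twisted {g : GL chevD4.Idx K} (hg : g ∈ twistedD4 K q) :
    mapGL chevD4 θ g ∈ twistedD4 K q := by
  have hle : twistedD4 K q ≤ (twistedD4 K q).comap (mapGL chevD4 θ) := by
    conv_lhs => rw [twistedD4, genSubgroup_eq hC]
    rw [Subgroup.closure_le]
    rintro x ⟨w, hw, rfl⟩
    rw [SetLike.mem_coe, Subgroup.mem_comap]
    have e : mapGL chevD4 θ (wordGL hC w) = wordGL hC (w.map fun p => (p.1, θ p.2)) := by
      rw [wordGL, wordGL, map_list_prod, List.map_map, List.map_map]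
      exact congrArg List.prod (List.map_congr_left fun p _ => map_xg hC θ p.1 p.2)
    rw [e]
    refine wordGL_mem ?_
    rcases hw with ⟨t, ht, r, hr, rfl⟩ | ⟨t, rs, hrs, rfl⟩
    · exact Or.inl ⟨θ t, by rw [← map_pow, ht], r, hr, rfl⟩
    · exact Or.inr ⟨θ t, rs, hrs, by simp [map_pow]⟩
  exact hle hg

omit X [Fintype K] in
theorem fixed_hg14 {s : K} (hs : θ s = s) : Fixed chevD4 θ (hg hC 14 s) := by
  rw [Fixed, hg, ng, ng]
  simp only [map_mul, map_xg hC θ, map_neg, map_inv₀, map_one, hs]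

omit X in
theorem neg14 : chevD4.neg 14 = 9 := by decide +kernel

omit X in
include hθ in
theorem hg14_mem {s : K} (hs : θ s = s) : hg hC 14 s ∈ twistedD4 K q := by
  rw [hg, ng, ng, neg14]
  have h : ∀ {t : K}, θ t = t → Xr 14 t ∈ twistedD4 K q ∧ Xr 9 t ∈ twistedD4 K q :=
    fun ht => ⟨x14_mem θ hθ ht, x9_mem θ hθ ht⟩
  exact mul_mem (mul_mem (mul_mem (h hs).1 (h (by rw [map_neg, map_inv₀, hs])).2) (h hs).1)
    (mul_mem (mul_mem (h (by simp)).1 (h (by simp)).2) (h (by simp)).1)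

omit X in
theorem cartan14_ok : chevD4.simple 1 = 14 ∧ chevD4.cartan 1 18 = -1 ∧ chevD4.cartan 1 13 = -1 ∧
    chevD4.cartan 1 12 = -1 := by
  decide +kernel

omit X [Fintype K] in
theorem hg14_conj_eA {s : K} (hs0 : s ≠ 0) (hs : θ s = s) (t : K) :
    hg hC 14 s * eA θ t * (hg hC 14 s)⁻¹ = eA θ (s⁻¹ * t) := by
  obtain ⟨e1, c18, c13, c12⟩ := cartan14_ok
  obtain ⟨u, rfl⟩ : ∃ u : Kˣ, (u : K) = s := ⟨Units.mk0 s hs0, rfl⟩
  rw [← e1, hg_simple hC (by decide +kernel)]
  have key : ∀ r, chevD4.cartan 1 r = -1 →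
      (torChar chevD4 (fun j => if j = 1 then u else 1) r : K) = (u : K)⁻¹ := by
    intro r hr
    rw [torChar, Finset.prod_eq_single 1 (fun j _ hj => by rw [if_neg hj, one_zpow])
      (fun h => absurd (Finset.mem_range.2 (by decide +kernel)) h), if_pos rfl, hr, zpow_neg_one,
      Units.val_inv_eq_inv_val]
  have h3 : ∀ (g x y z : GL chevD4.Idx K), g * (x * y * z) * g⁻¹ =
      g * x * g⁻¹ * (g * y * g⁻¹) * (g * z * g⁻¹) := fun g x y z => by group
  rw [eA, h3, tor_conj_x hC _ _ _ (lt24 (by decide)), tor_conj_x hC _ _ _ (lt24 (by decide)),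
    tor_conj_x hC _ _ _ (lt24 (by decide)), key 18 c18, key 13 c13, key 12 c12, eA]
  simp only [map_mul, map_inv₀, hs]

end Cfsg.Agent.SimpleFacts.TrialitySubfield
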