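import Cfsg.Agent.Lib.Chevalley.Twist.D4
import Cfsg.Agent.Base.RecEqns

/-!
Collection in the unipotent group of type D4 in any characteristic, in the order of the indices.
-/

set_option autoImplicit false
set_option linter.unusedSimpArgs false

namespace Cfsg.Agent.SimpleFacts.TrialitySubfield

open Cfsg.Lie Cfsg.Agent.Chevalley Cfsg.Agent.Chevalley.Table Cfsg.Agent.Chevalley.Cert
  Cfsg.Agent.Chevalley.Group Cfsg.Agent.Chevalley.Unip Cfsg.Agent.Chevalley.Borel
  Cfsg.Agent.Chevalley.Twist.D4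

variable {K : Type*} [Field K]

local notation "Xr" => xg (F := K) hC

theorem comm_none : ∀ p ∈ [(12, 13), (12, 15), (12, 17), (12, 18), (12, 20), (12, 22), (12, 23), (13, 16), (13, 17), (13, 18), (13, 21), (13, 22), (13, 23), (14, 15), (14, 16), (14, 17), (14, 19), (14, 20), (14, 21), (14, 23), (15, 16), (15, 17), (15, 19), (15, 20), (15, 22), (15, 23), (16, 17), (16, 19), (16, 21), (16, 22), (16, 23), (17, 20), (17, 21), (17, 22), (17, 23), (18, 19), (18, 20), (18, 21), (18, 22), (18, 23), (19, 20), (19, 21), (19, 22), (19, 23), (20, 21), (20, 22), (20, 23), (21, 22), (21, 23), (22, 23)],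
    p.1 < chevD4.nroots ∧ p.2 < chevD4.nroots ∧ p.2 ≠ p.1 ∧
    p.2 ≠ chevD4.neg p.1 ∧ chevD4.commTerms p.1 p.2 = [] := by decide +kernel

theorem comm_one : ∀ p ∈ [(12, (14, (15, (1 : ℤ)))), (12, (16, (17, (1 : ℤ)))), (12, (19, (20, (1 : ℤ)))), (12, (21, (22, (1 : ℤ)))), (13, (14, (16, (1 : ℤ)))), (13, (15, (17, (1 : ℤ)))), (13, (19, (21, (1 : ℤ)))), (13, (20, (22, (1 : ℤ)))), (14, (18, (19, (1 : ℤ)))), (14, (22, (23, (1 : ℤ)))), (15, (18, (20, (1 : ℤ)))), (15, (21, (23, (-1 : ℤ)))), (16, (18, (21, (1 : ℤ)))), (16, (20, (23, (-1 : ℤ)))), (17, (18, (22, (1 : ℤ)))), (17, (19, (23, (1 : ℤ))))],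
    p.1 < chevD4.nroots ∧ p.2.1 < chevD4.nroots ∧ p.2.1 ≠ p.1 ∧ p.2.1 ≠ chevD4.neg p.1 ∧
    chevD4.commTerms p.1 p.2.1 = [(p.2.2.1, p.2.2.2, 1, 1)] := by
  decide +kernel

theorem swap_none {r s : ℕ} (h : r < chevD4.nroots ∧ s < chevD4.nroots ∧ s ≠ r ∧ s ≠ chevD4.neg r ∧
    chevD4.commTerms r s = []) (t u : K) : Xr s u * Xr r t = Xr r t * Xr s u := by
  obtain ⟨hr, hs, h1, h2, h3⟩ := h
  rw [xg_comm hC hr hs h1 h2]
  simp [ChevalleyDatum.commWord, h3]

theorem swap_one {r s k : ℕ} {n : ℤ} (h : r < chevD4.nroots ∧ s < chevD4.nroots ∧ s ≠ r ∧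
    s ≠ chevD4.neg r ∧ chevD4.commTerms r s = [(k, n, 1, 1)]) {c : K} (t u : K)
    (hc : (n : K) * -t * u = c) :
    Xr s u * Xr r t = Xr r t * (Xr s u * Xr k c) := by
  obtain ⟨hr, hs, h1, h2, h3⟩ := h
  rw [xg_comm hC hr hs h1 h2, mul_assoc, ← hc]
  simp [ChevalleyDatum.commWord, h3]

theorem assoc_of {G : Type*} [Semigroup G] {a b c : G} (h : a * b = c) (R : G) :
    a * (b * R) = c * R := by
  rw [← mul_assoc, h]

theorem merge (r : ℕ) (t u : K) : Xr r t * Xr r u = Xr r (t + u) := (xg_add hC r t u).symm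

theorem merge' (r : ℕ) (t u : K) (R : GL chevD4.Idx K) :
    Xr r t * (Xr r u * R) = Xr r (t + u) * R := by rw [← mul_assoc, merge]

theorem w13_12 (t u : K) : Xr 13 u * Xr 12 t = Xr 12 t * Xr 13 u :=
  swap_none (comm_none (12, 13) (by simp)) t u

theorem w13_12' (t u : K) (R : GL chevD4.Idx K) :
    Xr 13 u * (Xr 12 t * R) = Xr 12 t * (Xr 13 u * R) :=
  (assoc_of (w13_12 t u) R).trans (mul_assoc _ _ _)

theorem w15_12 (t u : K) : Xr 15 u * Xr 12 t = Xr 12 t * Xr 15 u :=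
  swap_none (comm_none (12, 15) (by simp)) t u

theorem w15_12' (t u : K) (R : GL chevD4.Idx K) :
    Xr 15 u * (Xr 12 t * R) = Xr 12 t * (Xr 15 u * R) :=
  (assoc_of (w15_12 t u) R).trans (mul_assoc _ _ _)

theorem w17_12 (t u : K) : Xr 17 u * Xr 12 t = Xr 12 t * Xr 17 u :=
  swap_none (comm_none (12, 17) (by simp)) t u

theorem w17_12' (t u : K) (R : GL chevD4.Idx K) :
    Xr 17 u * (Xr 12 t * R) = Xr 12 t * (Xr 17 u * R) :=
  (assoc_of (w17_12 t u) R).trans (mul_assoc _ _ _)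

theorem w18_12 (t u : K) : Xr 18 u * Xr 12 t = Xr 12 t * Xr 18 u :=
  swap_none (comm_none (12, 18) (by simp)) t u

theorem w18_12' (t u : K) (R : GL chevD4.Idx K) :
    Xr 18 u * (Xr 12 t * R) = Xr 12 t * (Xr 18 u * R) :=
  (assoc_of (w18_12 t u) R).trans (mul_assoc _ _ _)

theorem w20_12 (t u : K) : Xr 20 u * Xr 12 t = Xr 12 t * Xr 20 u :=
  swap_none (comm_none (12, 20) (by simp)) t u

theorem w20_12' (t u : K) (R : GL chevD4.Idx K) :
    Xr 20 u * (Xr 12 t * R) = Xr 12 t * (Xr 20 u * R) :=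
  (assoc_of (w20_12 t u) R).trans (mul_assoc _ _ _)

theorem w22_12 (t u : K) : Xr 22 u * Xr 12 t = Xr 12 t * Xr 22 u :=
  swap_none (comm_none (12, 22) (by simp)) t u

theorem w22_12' (t u : K) (R : GL chevD4.Idx K) :
    Xr 22 u * (Xr 12 t * R) = Xr 12 t * (Xr 22 u * R) :=
  (assoc_of (w22_12 t u) R).trans (mul_assoc _ _ _)

theorem w23_12 (t u : K) : Xr 23 u * Xr 12 t = Xr 12 t * Xr 23 u :=
  swap_none (comm_none (12, 23) (by simp)) t u

theorem w23_12' (t u : K) (R : GL chevD4.Idx K) :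
    Xr 23 u * (Xr 12 t * R) = Xr 12 t * (Xr 23 u * R) :=
  (assoc_of (w23_12 t u) R).trans (mul_assoc _ _ _)

theorem w16_13 (t u : K) : Xr 16 u * Xr 13 t = Xr 13 t * Xr 16 u :=
  swap_none (comm_none (13, 16) (by simp)) t u

theorem w16_13' (t u : K) (R : GL chevD4.Idx K) :
    Xr 16 u * (Xr 13 t * R) = Xr 13 t * (Xr 16 u * R) :=
  (assoc_of (w16_13 t u) R).trans (mul_assoc _ _ _)

theorem w17_13 (t u : K) : Xr 17 u * Xr 13 t = Xr 13 t * Xr 17 u :=
  swap_none (comm_none (13, 17) (by simp)) t u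

theorem w17_13' (t u : K) (R : GL chevD4.Idx K) :
    Xr 17 u * (Xr 13 t * R) = Xr 13 t * (Xr 17 u * R) :=
  (assoc_of (w17_13 t u) R).trans (mul_assoc _ _ _)

theorem w18_13 (t u : K) : Xr 18 u * Xr 13 t = Xr 13 t * Xr 18 u :=
  swap_none (comm_none (13, 18) (by simp)) t u

theorem w18_13' (t u : K) (R : GL chevD4.Idx K) :
    Xr 18 u * (Xr 13 t * R) = Xr 13 t * (Xr 18 u * R) :=
  (assoc_of (w18_13 t u) R).trans (mul_assoc _ _ _)

theorem w21_13 (t u : K) : Xr 21 u * Xr 13 t = Xr 13 t * Xr 21 u :=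
  swap_none (comm_none (13, 21) (by simp)) t u

theorem w21_13' (t u : K) (R : GL chevD4.Idx K) :
    Xr 21 u * (Xr 13 t * R) = Xr 13 t * (Xr 21 u * R) :=
  (assoc_of (w21_13 t u) R).trans (mul_assoc _ _ _)

theorem w22_13 (t u : K) : Xr 22 u * Xr 13 t = Xr 13 t * Xr 22 u :=
  swap_none (comm_none (13, 22) (by simp)) t u

theorem w22_13' (t u : K) (R : GL chevD4.Idx K) :
    Xr 22 u * (Xr 13 t * R) = Xr 13 t * (Xr 22 u * R) :=
  (assoc_of (w22_13 t u) R).trans (mul_assoc _ _ _)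

theorem w23_13 (t u : K) : Xr 23 u * Xr 13 t = Xr 13 t * Xr 23 u :=
  swap_none (comm_none (13, 23) (by simp)) t u

theorem w23_13' (t u : K) (R : GL chevD4.Idx K) :
    Xr 23 u * (Xr 13 t * R) = Xr 13 t * (Xr 23 u * R) :=
  (assoc_of (w23_13 t u) R).trans (mul_assoc _ _ _)

theorem w15_14 (t u : K) : Xr 15 u * Xr 14 t = Xr 14 t * Xr 15 u :=
  swap_none (comm_none (14, 15) (by simp)) t u

theorem w15_14' (t u : K) (R : GL chevD4.Idx K) :
    Xr 15 u * (Xr 14 t * R) = Xr 14 t * (Xr 15 u * R) :=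
  (assoc_of (w15_14 t u) R).trans (mul_assoc _ _ _)

theorem w16_14 (t u : K) : Xr 16 u * Xr 14 t = Xr 14 t * Xr 16 u :=
  swap_none (comm_none (14, 16) (by simp)) t u

theorem w16_14' (t u : K) (R : GL chevD4.Idx K) :
    Xr 16 u * (Xr 14 t * R) = Xr 14 t * (Xr 16 u * R) :=
  (assoc_of (w16_14 t u) R).trans (mul_assoc _ _ _)

theorem w17_14 (t u : K) : Xr 17 u * Xr 14 t = Xr 14 t * Xr 17 u :=
  swap_none (comm_none (14, 17) (by simp)) t u

theorem w17_14' (t u : K) (R : GL chevD4.Idx K) :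
    Xr 17 u * (Xr 14 t * R) = Xr 14 t * (Xr 17 u * R) :=
  (assoc_of (w17_14 t u) R).trans (mul_assoc _ _ _)

theorem w19_14 (t u : K) : Xr 19 u * Xr 14 t = Xr 14 t * Xr 19 u :=
  swap_none (comm_none (14, 19) (by simp)) t u

theorem w19_14' (t u : K) (R : GL chevD4.Idx K) :
    Xr 19 u * (Xr 14 t * R) = Xr 14 t * (Xr 19 u * R) :=
  (assoc_of (w19_14 t u) R).trans (mul_assoc _ _ _)

theorem w20_14 (t u : K) : Xr 20 u * Xr 14 t = Xr 14 t * Xr 20 u :=
  swap_none (comm_none (14, 20) (by simp)) t u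

theorem w20_14' (t u : K) (R : GL chevD4.Idx K) :
    Xr 20 u * (Xr 14 t * R) = Xr 14 t * (Xr 20 u * R) :=
  (assoc_of (w20_14 t u) R).trans (mul_assoc _ _ _)

theorem w21_14 (t u : K) : Xr 21 u * Xr 14 t = Xr 14 t * Xr 21 u :=
  swap_none (comm_none (14, 21) (by simp)) t u

theorem w21_14' (t u : K) (R : GL chevD4.Idx K) :
    Xr 21 u * (Xr 14 t * R) = Xr 14 t * (Xr 21 u * R) :=
  (assoc_of (w21_14 t u) R).trans (mul_assoc _ _ _)

theorem w23_14 (t u : K) : Xr 23 u * Xr 14 t = Xr 14 t * Xr 23 u :=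
  swap_none (comm_none (14, 23) (by simp)) t u

theorem w23_14' (t u : K) (R : GL chevD4.Idx K) :
    Xr 23 u * (Xr 14 t * R) = Xr 14 t * (Xr 23 u * R) :=
  (assoc_of (w23_14 t u) R).trans (mul_assoc _ _ _)

theorem w16_15 (t u : K) : Xr 16 u * Xr 15 t = Xr 15 t * Xr 16 u :=
  swap_none (comm_none (15, 16) (by simp)) t u

theorem w16_15' (t u : K) (R : GL chevD4.Idx K) :
    Xr 16 u * (Xr 15 t * R) = Xr 15 t * (Xr 16 u * R) :=
  (assoc_of (w16_15 t u) R).trans (mul_assoc _ _ _)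

theorem w17_15 (t u : K) : Xr 17 u * Xr 15 t = Xr 15 t * Xr 17 u :=
  swap_none (comm_none (15, 17) (by simp)) t u

theorem w17_15' (t u : K) (R : GL chevD4.Idx K) :
    Xr 17 u * (Xr 15 t * R) = Xr 15 t * (Xr 17 u * R) :=
  (assoc_of (w17_15 t u) R).trans (mul_assoc _ _ _)

theorem w19_15 (t u : K) : Xr 19 u * Xr 15 t = Xr 15 t * Xr 19 u :=
  swap_none (comm_none (15, 19) (by simp)) t u

theorem w19_15' (t u : K) (R : GL chevD4.Idx K) :
    Xr 19 u * (Xr 15 t * R) = Xr 15 t * (Xr 19 u * R) :=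
  (assoc_of (w19_15 t u) R).trans (mul_assoc _ _ _)

theorem w20_15 (t u : K) : Xr 20 u * Xr 15 t = Xr 15 t * Xr 20 u :=
  swap_none (comm_none (15, 20) (by simp)) t u

theorem w20_15' (t u : K) (R : GL chevD4.Idx K) :
    Xr 20 u * (Xr 15 t * R) = Xr 15 t * (Xr 20 u * R) :=
  (assoc_of (w20_15 t u) R).trans (mul_assoc _ _ _)

theorem w22_15 (t u : K) : Xr 22 u * Xr 15 t = Xr 15 t * Xr 22 u :=
  swap_none (comm_none (15, 22) (by simp)) t u

theorem w22_15' (t u : K) (R : GL chevD4.Idx K) :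
    Xr 22 u * (Xr 15 t * R) = Xr 15 t * (Xr 22 u * R) :=
  (assoc_of (w22_15 t u) R).trans (mul_assoc _ _ _)

theorem w23_15 (t u : K) : Xr 23 u * Xr 15 t = Xr 15 t * Xr 23 u :=
  swap_none (comm_none (15, 23) (by simp)) t u

theorem w23_15' (t u : K) (R : GL chevD4.Idx K) :
    Xr 23 u * (Xr 15 t * R) = Xr 15 t * (Xr 23 u * R) :=
  (assoc_of (w23_15 t u) R).trans (mul_assoc _ _ _)

theorem w17_16 (t u : K) : Xr 17 u * Xr 16 t = Xr 16 t * Xr 17 u :=
  swap_none (comm_none (16, 17) (by simp)) t u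

theorem w17_16' (t u : K) (R : GL chevD4.Idx K) :
    Xr 17 u * (Xr 16 t * R) = Xr 16 t * (Xr 17 u * R) :=
  (assoc_of (w17_16 t u) R).trans (mul_assoc _ _ _)

theorem w19_16 (t u : K) : Xr 19 u * Xr 16 t = Xr 16 t * Xr 19 u :=
  swap_none (comm_none (16, 19) (by simp)) t u

theorem w19_16' (t u : K) (R : GL chevD4.Idx K) :
    Xr 19 u * (Xr 16 t * R) = Xr 16 t * (Xr 19 u * R) :=
  (assoc_of (w19_16 t u) R).trans (mul_assoc _ _ _)

theorem w21_16 (t u : K) : Xr 21 u * Xr 16 t = Xr 16 t * Xr 21 u :=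
  swap_none (comm_none (16, 21) (by simp)) t u

theorem w21_16' (t u : K) (R : GL chevD4.Idx K) :
    Xr 21 u * (Xr 16 t * R) = Xr 16 t * (Xr 21 u * R) :=
  (assoc_of (w21_16 t u) R).trans (mul_assoc _ _ _)

theorem w22_16 (t u : K) : Xr 22 u * Xr 16 t = Xr 16 t * Xr 22 u :=
  swap_none (comm_none (16, 22) (by simp)) t u

theorem w22_16' (t u : K) (R : GL chevD4.Idx K) :
    Xr 22 u * (Xr 16 t * R) = Xr 16 t * (Xr 22 u * R) :=
  (assoc_of (w22_16 t u) R).trans (mul_assoc _ _ _)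

theorem w23_16 (t u : K) : Xr 23 u * Xr 16 t = Xr 16 t * Xr 23 u :=
  swap_none (comm_none (16, 23) (by simp)) t u

theorem w23_16' (t u : K) (R : GL chevD4.Idx K) :
    Xr 23 u * (Xr 16 t * R) = Xr 16 t * (Xr 23 u * R) :=
  (assoc_of (w23_16 t u) R).trans (mul_assoc _ _ _)

theorem w20_17 (t u : K) : Xr 20 u * Xr 17 t = Xr 17 t * Xr 20 u :=
  swap_none (comm_none (17, 20) (by simp)) t u

theorem w20_17' (t u : K) (R : GL chevD4.Idx K) :
    Xr 20 u * (Xr 17 t * R) = Xr 17 t * (Xr 20 u * R) :=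
  (assoc_of (w20_17 t u) R).trans (mul_assoc _ _ _)

theorem w21_17 (t u : K) : Xr 21 u * Xr 17 t = Xr 17 t * Xr 21 u :=
  swap_none (comm_none (17, 21) (by simp)) t u

theorem w21_17' (t u : K) (R : GL chevD4.Idx K) :
    Xr 21 u * (Xr 17 t * R) = Xr 17 t * (Xr 21 u * R) :=
  (assoc_of (w21_17 t u) R).trans (mul_assoc _ _ _)

theorem w22_17 (t u : K) : Xr 22 u * Xr 17 t = Xr 17 t * Xr 22 u :=
  swap_none (comm_none (17, 22) (by simp)) t u

theorem w22_17' (t u : K) (R : GL chevD4.Idx K) :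
    Xr 22 u * (Xr 17 t * R) = Xr 17 t * (Xr 22 u * R) :=
  (assoc_of (w22_17 t u) R).trans (mul_assoc _ _ _)

theorem w23_17 (t u : K) : Xr 23 u * Xr 17 t = Xr 17 t * Xr 23 u :=
  swap_none (comm_none (17, 23) (by simp)) t u

theorem w23_17' (t u : K) (R : GL chevD4.Idx K) :
    Xr 23 u * (Xr 17 t * R) = Xr 17 t * (Xr 23 u * R) :=
  (assoc_of (w23_17 t u) R).trans (mul_assoc _ _ _)

theorem w19_18 (t u : K) : Xr 19 u * Xr 18 t = Xr 18 t * Xr 19 u :=
  swap_none (comm_none (18, 19) (by simp)) t u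

theorem w19_18' (t u : K) (R : GL chevD4.Idx K) :
    Xr 19 u * (Xr 18 t * R) = Xr 18 t * (Xr 19 u * R) :=
  (assoc_of (w19_18 t u) R).trans (mul_assoc _ _ _)

theorem w20_18 (t u : K) : Xr 20 u * Xr 18 t = Xr 18 t * Xr 20 u :=
  swap_none (comm_none (18, 20) (by simp)) t u

theorem w20_18' (t u : K) (R : GL chevD4.Idx K) :
    Xr 20 u * (Xr 18 t * R) = Xr 18 t * (Xr 20 u * R) :=
  (assoc_of (w20_18 t u) R).trans (mul_assoc _ _ _)

theorem w21_18 (t u : K) : Xr 21 u * Xr 18 t = Xr 18 t * Xr 21 u :=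
  swap_none (comm_none (18, 21) (by simp)) t u

theorem w21_18' (t u : K) (R : GL chevD4.Idx K) :
    Xr 21 u * (Xr 18 t * R) = Xr 18 t * (Xr 21 u * R) :=
  (assoc_of (w21_18 t u) R).trans (mul_assoc _ _ _)

theorem w22_18 (t u : K) : Xr 22 u * Xr 18 t = Xr 18 t * Xr 22 u :=
  swap_none (comm_none (18, 22) (by simp)) t u

theorem w22_18' (t u : K) (R : GL chevD4.Idx K) :
    Xr 22 u * (Xr 18 t * R) = Xr 18 t * (Xr 22 u * R) :=
  (assoc_of (w22_18 t u) R).trans (mul_assoc _ _ _)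

theorem w23_18 (t u : K) : Xr 23 u * Xr 18 t = Xr 18 t * Xr 23 u :=
  swap_none (comm_none (18, 23) (by simp)) t u

theorem w23_18' (t u : K) (R : GL chevD4.Idx K) :
    Xr 23 u * (Xr 18 t * R) = Xr 18 t * (Xr 23 u * R) :=
  (assoc_of (w23_18 t u) R).trans (mul_assoc _ _ _)

theorem w20_19 (t u : K) : Xr 20 u * Xr 19 t = Xr 19 t * Xr 20 u :=
  swap_none (comm_none (19, 20) (by simp)) t u

theorem w20_19' (t u : K) (R : GL chevD4.Idx K) :
    Xr 20 u * (Xr 19 t * R) = Xr 19 t * (Xr 20 u * R) :=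
  (assoc_of (w20_19 t u) R).trans (mul_assoc _ _ _)

theorem w21_19 (t u : K) : Xr 21 u * Xr 19 t = Xr 19 t * Xr 21 u :=
  swap_none (comm_none (19, 21) (by simp)) t u

theorem w21_19' (t u : K) (R : GL chevD4.Idx K) :
    Xr 21 u * (Xr 19 t * R) = Xr 19 t * (Xr 21 u * R) :=
  (assoc_of (w21_19 t u) R).trans (mul_assoc _ _ _)

theorem w22_19 (t u : K) : Xr 22 u * Xr 19 t = Xr 19 t * Xr 22 u :=
  swap_none (comm_none (19, 22) (by simp)) t u

theorem w22_19' (t u : K) (R : GL chevD4.Idx K) :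
    Xr 22 u * (Xr 19 t * R) = Xr 19 t * (Xr 22 u * R) :=
  (assoc_of (w22_19 t u) R).trans (mul_assoc _ _ _)

theorem w23_19 (t u : K) : Xr 23 u * Xr 19 t = Xr 19 t * Xr 23 u :=
  swap_none (comm_none (19, 23) (by simp)) t u

theorem w23_19' (t u : K) (R : GL chevD4.Idx K) :
    Xr 23 u * (Xr 19 t * R) = Xr 19 t * (Xr 23 u * R) :=
  (assoc_of (w23_19 t u) R).trans (mul_assoc _ _ _)

theorem w21_20 (t u : K) : Xr 21 u * Xr 20 t = Xr 20 t * Xr 21 u :=
  swap_none (comm_none (20, 21) (by simp)) t u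

theorem w21_20' (t u : K) (R : GL chevD4.Idx K) :
    Xr 21 u * (Xr 20 t * R) = Xr 20 t * (Xr 21 u * R) :=
  (assoc_of (w21_20 t u) R).trans (mul_assoc _ _ _)

theorem w22_20 (t u : K) : Xr 22 u * Xr 20 t = Xr 20 t * Xr 22 u :=
  swap_none (comm_none (20, 22) (by simp)) t u

theorem w22_20' (t u : K) (R : GL chevD4.Idx K) :
    Xr 22 u * (Xr 20 t * R) = Xr 20 t * (Xr 22 u * R) :=
  (assoc_of (w22_20 t u) R).trans (mul_assoc _ _ _)

theorem w23_20 (t u : K) : Xr 23 u * Xr 20 t = Xr 20 t * Xr 23 u :=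
  swap_none (comm_none (20, 23) (by simp)) t u

theorem w23_20' (t u : K) (R : GL chevD4.Idx K) :
    Xr 23 u * (Xr 20 t * R) = Xr 20 t * (Xr 23 u * R) :=
  (assoc_of (w23_20 t u) R).trans (mul_assoc _ _ _)

theorem w22_21 (t u : K) : Xr 22 u * Xr 21 t = Xr 21 t * Xr 22 u :=
  swap_none (comm_none (21, 22) (by simp)) t u

theorem w22_21' (t u : K) (R : GL chevD4.Idx K) :
    Xr 22 u * (Xr 21 t * R) = Xr 21 t * (Xr 22 u * R) :=
  (assoc_of (w22_21 t u) R).trans (mul_assoc _ _ _)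

theorem w23_21 (t u : K) : Xr 23 u * Xr 21 t = Xr 21 t * Xr 23 u :=
  swap_none (comm_none (21, 23) (by simp)) t u

theorem w23_21' (t u : K) (R : GL chevD4.Idx K) :
    Xr 23 u * (Xr 21 t * R) = Xr 21 t * (Xr 23 u * R) :=
  (assoc_of (w23_21 t u) R).trans (mul_assoc _ _ _)

theorem w23_22 (t u : K) : Xr 23 u * Xr 22 t = Xr 22 t * Xr 23 u :=
  swap_none (comm_none (22, 23) (by simp)) t u

theorem w23_22' (t u : K) (R : GL chevD4.Idx K) :
    Xr 23 u * (Xr 22 t * R) = Xr 22 t * (Xr 23 u * R) :=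
  (assoc_of (w23_22 t u) R).trans (mul_assoc _ _ _)

theorem w14_12 (t u : K) :
    Xr 14 u * Xr 12 t = Xr 12 t * (Xr 14 u * Xr 15 (-(t * u))) :=
  swap_one (comm_one (12, (14, (15, (1 : ℤ)))) (by simp)) t u (by simp)

theorem w14_12' (t u : K) (R : GL chevD4.Idx K) :
    Xr 14 u * (Xr 12 t * R) = Xr 12 t * (Xr 14 u * (Xr 15 (-(t * u)) * R)) :=
  (assoc_of (w14_12 t u) R).trans (by simp only [mul_assoc])

theorem w16_12 (t u : K) :
    Xr 16 u * Xr 12 t = Xr 12 t * (Xr 16 u * Xr 17 (-(t * u))) :=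
  swap_one (comm_one (12, (16, (17, (1 : ℤ)))) (by simp)) t u (by simp)

theorem w16_12' (t u : K) (R : GL chevD4.Idx K) :
    Xr 16 u * (Xr 12 t * R) = Xr 12 t * (Xr 16 u * (Xr 17 (-(t * u)) * R)) :=
  (assoc_of (w16_12 t u) R).trans (by simp only [mul_assoc])

theorem w19_12 (t u : K) :
    Xr 19 u * Xr 12 t = Xr 12 t * (Xr 19 u * Xr 20 (-(t * u))) :=
  swap_one (comm_one (12, (19, (20, (1 : ℤ)))) (by simp)) t u (by simp)

theorem w19_12' (t u : K) (R : GL chevD4.Idx K) :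
    Xr 19 u * (Xr 12 t * R) = Xr 12 t * (Xr 19 u * (Xr 20 (-(t * u)) * R)) :=
  (assoc_of (w19_12 t u) R).trans (by simp only [mul_assoc])

theorem w21_12 (t u : K) :
    Xr 21 u * Xr 12 t = Xr 12 t * (Xr 21 u * Xr 22 (-(t * u))) :=
  swap_one (comm_one (12, (21, (22, (1 : ℤ)))) (by simp)) t u (by simp)

theorem w21_12' (t u : K) (R : GL chevD4.Idx K) :
    Xr 21 u * (Xr 12 t * R) = Xr 12 t * (Xr 21 u * (Xr 22 (-(t * u)) * R)) :=
  (assoc_of (w21_12 t u) R).trans (by simp only [mul_assoc])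

theorem w14_13 (t u : K) :
    Xr 14 u * Xr 13 t = Xr 13 t * (Xr 14 u * Xr 16 (-(t * u))) :=
  swap_one (comm_one (13, (14, (16, (1 : ℤ)))) (by simp)) t u (by simp)

theorem w14_13' (t u : K) (R : GL chevD4.Idx K) :
    Xr 14 u * (Xr 13 t * R) = Xr 13 t * (Xr 14 u * (Xr 16 (-(t * u)) * R)) :=
  (assoc_of (w14_13 t u) R).trans (by simp only [mul_assoc])

theorem w15_13 (t u : K) :
    Xr 15 u * Xr 13 t = Xr 13 t * (Xr 15 u * Xr 17 (-(t * u))) :=
  swap_one (comm_one (13, (15, (17, (1 : ℤ)))) (by simp)) t u (by simp)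

theorem w15_13' (t u : K) (R : GL chevD4.Idx K) :
    Xr 15 u * (Xr 13 t * R) = Xr 13 t * (Xr 15 u * (Xr 17 (-(t * u)) * R)) :=
  (assoc_of (w15_13 t u) R).trans (by simp only [mul_assoc])

theorem w19_13 (t u : K) :
    Xr 19 u * Xr 13 t = Xr 13 t * (Xr 19 u * Xr 21 (-(t * u))) :=
  swap_one (comm_one (13, (19, (21, (1 : ℤ)))) (by simp)) t u (by simp)

theorem w19_13' (t u : K) (R : GL chevD4.Idx K) :
    Xr 19 u * (Xr 13 t * R) = Xr 13 t * (Xr 19 u * (Xr 21 (-(t * u)) * R)) :=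
  (assoc_of (w19_13 t u) R).trans (by simp only [mul_assoc])

theorem w20_13 (t u : K) :
    Xr 20 u * Xr 13 t = Xr 13 t * (Xr 20 u * Xr 22 (-(t * u))) :=
  swap_one (comm_one (13, (20, (22, (1 : ℤ)))) (by simp)) t u (by simp)

theorem w20_13' (t u : K) (R : GL chevD4.Idx K) :
    Xr 20 u * (Xr 13 t * R) = Xr 13 t * (Xr 20 u * (Xr 22 (-(t * u)) * R)) :=
  (assoc_of (w20_13 t u) R).trans (by simp only [mul_assoc])

theorem w18_14 (t u : K) :
    Xr 18 u * Xr 14 t = Xr 14 t * (Xr 18 u * Xr 19 (-(t * u))) :=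
  swap_one (comm_one (14, (18, (19, (1 : ℤ)))) (by simp)) t u (by simp)

theorem w18_14' (t u : K) (R : GL chevD4.Idx K) :
    Xr 18 u * (Xr 14 t * R) = Xr 14 t * (Xr 18 u * (Xr 19 (-(t * u)) * R)) :=
  (assoc_of (w18_14 t u) R).trans (by simp only [mul_assoc])

theorem w22_14 (t u : K) :
    Xr 22 u * Xr 14 t = Xr 14 t * (Xr 22 u * Xr 23 (-(t * u))) :=
  swap_one (comm_one (14, (22, (23, (1 : ℤ)))) (by simp)) t u (by simp)

theorem w22_14' (t u : K) (R : GL chevD4.Idx K) :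
    Xr 22 u * (Xr 14 t * R) = Xr 14 t * (Xr 22 u * (Xr 23 (-(t * u)) * R)) :=
  (assoc_of (w22_14 t u) R).trans (by simp only [mul_assoc])

theorem w18_15 (t u : K) :
    Xr 18 u * Xr 15 t = Xr 15 t * (Xr 18 u * Xr 20 (-(t * u))) :=
  swap_one (comm_one (15, (18, (20, (1 : ℤ)))) (by simp)) t u (by simp)

theorem w18_15' (t u : K) (R : GL chevD4.Idx K) :
    Xr 18 u * (Xr 15 t * R) = Xr 15 t * (Xr 18 u * (Xr 20 (-(t * u)) * R)) :=
  (assoc_of (w18_15 t u) R).trans (by simp only [mul_assoc])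

theorem w21_15 (t u : K) :
    Xr 21 u * Xr 15 t = Xr 15 t * (Xr 21 u * Xr 23 (t * u)) :=
  swap_one (comm_one (15, (21, (23, (-1 : ℤ)))) (by simp)) t u (by simp)

theorem w21_15' (t u : K) (R : GL chevD4.Idx K) :
    Xr 21 u * (Xr 15 t * R) = Xr 15 t * (Xr 21 u * (Xr 23 (t * u) * R)) :=
  (assoc_of (w21_15 t u) R).trans (by simp only [mul_assoc])

theorem w18_16 (t u : K) :
    Xr 18 u * Xr 16 t = Xr 16 t * (Xr 18 u * Xr 21 (-(t * u))) :=
  swap_one (comm_one (16, (18, (21, (1 : ℤ)))) (by simp)) t u (by simp)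

theorem w18_16' (t u : K) (R : GL chevD4.Idx K) :
    Xr 18 u * (Xr 16 t * R) = Xr 16 t * (Xr 18 u * (Xr 21 (-(t * u)) * R)) :=
  (assoc_of (w18_16 t u) R).trans (by simp only [mul_assoc])

theorem w20_16 (t u : K) :
    Xr 20 u * Xr 16 t = Xr 16 t * (Xr 20 u * Xr 23 (t * u)) :=
  swap_one (comm_one (16, (20, (23, (-1 : ℤ)))) (by simp)) t u (by simp)

theorem w20_16' (t u : K) (R : GL chevD4.Idx K) :
    Xr 20 u * (Xr 16 t * R) = Xr 16 t * (Xr 20 u * (Xr 23 (t * u) * R)) :=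
  (assoc_of (w20_16 t u) R).trans (by simp only [mul_assoc])

theorem w18_17 (t u : K) :
    Xr 18 u * Xr 17 t = Xr 17 t * (Xr 18 u * Xr 22 (-(t * u))) :=
  swap_one (comm_one (17, (18, (22, (1 : ℤ)))) (by simp)) t u (by simp)

theorem w18_17' (t u : K) (R : GL chevD4.Idx K) :
    Xr 18 u * (Xr 17 t * R) = Xr 17 t * (Xr 18 u * (Xr 22 (-(t * u)) * R)) :=
  (assoc_of (w18_17 t u) R).trans (by simp only [mul_assoc])

theorem w19_17 (t u : K) :
    Xr 19 u * Xr 17 t = Xr 17 t * (Xr 19 u * Xr 23 (-(t * u))) :=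
  swap_one (comm_one (17, (19, (23, (1 : ℤ)))) (by simp)) t u (by simp)

theorem w19_17' (t u : K) (R : GL chevD4.Idx K) :
    Xr 19 u * (Xr 17 t * R) = Xr 17 t * (Xr 19 u * (Xr 23 (-(t * u)) * R)) :=
  (assoc_of (w19_17 t u) R).trans (by simp only [mul_assoc])

/-- The general element of the unipotent group, in the order of the indices. -/
def P (v12 v13 v14 v15 v16 v17 v18 v19 v20 v21 v22 v23 : K) : GL chevD4.Idx K :=
  Xr 12 v12 * (Xr 13 v13 * (Xr 14 v14 * (Xr 15 v15 * (Xr 16 v16 * (Xr 17 v17 * (Xr 18 v18 * (Xr 19 v19 * (Xr 20 v20 * (Xr 21 v21 * (Xr 22 v22 * (Xr 23 v23)))))))))))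

theorem P_mul12 (v12 v13 v14 v15 v16 v17 v18 v19 v20 v21 v22 v23 t : K) : P v12 v13 v14 v15 v16 v17 v18 v19 v20 v21 v22 v23 * Xr 12 t =
    P (t + v12) (v13) (v14) (v15 - t * v14) (v16) (v17 - t * v16) (v18) (v19) (v20 - t * v19) (v21) (v22 - t * v21) (v23) := by
  simp only [P, mul_assoc, merge, merge', w13_12, w13_12', w15_12, w15_12', w17_12, w17_12', w18_12, w18_12', w20_12, w20_12', w22_12, w22_12', w23_12, w23_12', w16_13, w16_13', w17_13, w17_13', w18_13, w18_13', w21_13, w21_13', w22_13, w22_13', w23_13, w23_13', w15_14, w15_14', w16_14, w16_14', w17_14, w17_14', w19_14, w19_14', w20_14, w20_14', w21_14, w21_14', w23_14, w23_14', w16_15, w16_15', w17_15, w17_15', w19_15, w19_15', w20_15, w20_15', w22_15, w22_15', w23_15, w23_15', w17_16, w17_16', w19_16, w19_16', w21_16, w21_16', w22_16, w22_16', w23_16, w23_16', w20_17, w20_17', w21_17, w21_17', w22_17, w22_17', w23_17, w23_17', w19_18, w19_18', w20_18, w20_18', w21_18, w21_18',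 w22_18, w22_18', w23_18, w23_18', w20_19, w20_19', w21_19, w21_19', w22_19, w22_19', w23_19, w23_19', w21_20, w21_20', w22_20, w22_20', w23_20, w23_20', w22_21, w22_21', w23_21, w23_21', w23_22, w23_22', w14_12, w14_12', w16_12, w16_12', w19_12, w19_12', w21_12, w21_12', w14_13, w14_13', w15_13, w15_13', w19_13, w19_13', w20_13, w20_13', w18_14, w18_14', w22_14, w22_14', w18_15, w18_15', w21_15, w21_15', w18_16, w18_16', w20_16, w20_16', w18_17, w18_17', w19_17, w19_17']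
  all_goals ring_nf

theorem P_mul13 (v12 v13 v14 v15 v16 v17 v18 v19 v20 v21 v22 v23 t : K) : P v12 v13 v14 v15 v16 v17 v18 v19 v20 v21 v22 v23 * Xr 13 t =
    P (v12) (t + v13) (v14) (v15) (v16 - t * v14) (v17 - t * v15) (v18) (v19) (v20) (v21 - t * v19) (v22 - t * v20) (v23) := by
  simp only [P, mul_assoc, merge, merge', w13_12, w13_12', w15_12, w15_12', w17_12, w17_12', w18_12, w18_12', w20_12, w20_12', w22_12, w22_12', w23_12, w23_12', w16_13, w16_13', w17_13, w17_13', w18_13, w18_13', w21_13, w21_13', w22_13, w22_13', w23_13, w23_13', w15_14, w15_14', w16_14, w16_14', w17_14, w17_14', w19_14, w19_14', w20_14, w20_14', w21_14, w21_14', w23_14, w23_14', w16_15, w16_15', w17_15, w17_15', w19_15, w19_15', w20_15, w20_15', w22_15, w22_15', w23_15, w23_15', w17_16, w17_16', w19_16, w19_16', w21_16, w21_16', w22_16, w22_16', w23_16, w23_16', w20_17, w20_17', w21_17, w21_17', w22_17, w22_17', w23_17, w23_17', w19_18, w19_18', w20_18,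 w20_18', w21_18, w21_18', w22_18, w22_18', w23_18, w23_18', w20_19, w20_19', w21_19, w21_19', w22_19, w22_19', w23_19, w23_19', w21_20, w21_20', w22_20, w22_20', w23_20, w23_20', w22_21, w22_21', w23_21, w23_21', w23_22, w23_22', w14_12, w14_12', w16_12, w16_12', w19_12, w19_12', w21_12, w21_12', w14_13, w14_13', w15_13, w15_13', w19_13, w19_13', w20_13, w20_13', w18_14, w18_14', w22_14, w22_14', w18_15, w18_15', w21_15, w21_15', w18_16, w18_16', w20_16, w20_16', w18_17, w18_17', w19_17, w19_17']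
  all_goals ring_nf

theorem P_mul14 (v12 v13 v14 v15 v16 v17 v18 v19 v20 v21 v22 v23 t : K) : P v12 v13 v14 v15 v16 v17 v18 v19 v20 v21 v22 v23 * Xr 14 t =
    P (v12) (v13) (t + v14) (v15) (v16) (v17) (v18) (v19 - t * v18) (v20) (v21) (v22) (v23 - t * v22) := by
  simp only [P, mul_assoc, merge, merge', w13_12, w13_12', w15_12, w15_12', w17_12, w17_12', w18_12, w18_12', w20_12, w20_12', w22_12, w22_12', w23_12, w23_12', w16_13, w16_13', w17_13, w17_13', w18_13, w18_13', w21_13, w21_13', w22_13, w22_13', w23_13, w23_13', w15_14, w15_14', w16_14, w16_14', w17_14, w17_14', w19_14, w19_14', w20_14, w20_14', w21_14, w21_14', w23_14, w23_14', w16_15, w16_15', w17_15, w17_15', w19_15, w19_15', w20_15, w20_15', w22_15, w22_15', w23_15, w23_15', w17_16, w17_16', w19_16, w19_16', w21_16, w21_16', w22_16, w22_16', w23_16, w23_16', w20_17, w20_17', w21_17, w21_17', w22_17, w22_17', w23_17, w23_17', w19_18, w19_18', w20_18, w20_18', w21_18, w21_18',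 w22_18, w22_18', w23_18, w23_18', w20_19, w20_19', w21_19, w21_19', w22_19, w22_19', w23_19, w23_19', w21_20, w21_20', w22_20, w22_20', w23_20, w23_20', w22_21, w22_21', w23_21, w23_21', w23_22, w23_22', w14_12, w14_12', w16_12, w16_12', w19_12, w19_12', w21_12, w21_12', w14_13, w14_13', w15_13, w15_13', w19_13, w19_13', w20_13, w20_13', w18_14, w18_14', w22_14, w22_14', w18_15, w18_15', w21_15, w21_15', w18_16, w18_16', w20_16, w20_16', w18_17, w18_17', w19_17, w19_17']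
  all_goals ring_nf

theorem P_mul15 (v12 v13 v14 v15 v16 v17 v18 v19 v20 v21 v22 v23 t : K) : P v12 v13 v14 v15 v16 v17 v18 v19 v20 v21 v22 v23 * Xr 15 t =
    P (v12) (v13) (v14) (t + v15) (v16) (v17) (v18) (v19) (v20 - t * v18) (v21) (v22) (v23 + t * v21) := by
  simp only [P, mul_assoc, merge, merge', w13_12, w13_12', w15_12, w15_12', w17_12, w17_12', w18_12, w18_12', w20_12, w20_12', w22_12, w22_12', w23_12, w23_12', w16_13, w16_13', w17_13, w17_13', w18_13, w18_13', w21_13, w21_13', w22_13, w22_13', w23_13, w23_13', w15_14, w15_14', w16_14, w16_14', w17_14, w17_14', w19_14, w19_14', w20_14, w20_14', w21_14, w21_14', w23_14, w23_14', w16_15, w16_15', w17_15, w17_15', w19_15, w19_15', w20_15, w20_15', w22_15, w22_15', w23_15, w23_15', w17_16, w17_16', w19_16, w19_16', w21_16, w21_16', w22_16, w22_16', w23_16, w23_16', w20_17, w20_17', w21_17, w21_17', w22_17, w22_17', w23_17, w23_17', w19_18, w19_18', w20_18, w20_18', w21_18, w21_18',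 w22_18, w22_18', w23_18, w23_18', w20_19, w20_19', w21_19, w21_19', w22_19, w22_19', w23_19, w23_19', w21_20, w21_20', w22_20, w22_20', w23_20, w23_20', w22_21, w22_21', w23_21, w23_21', w23_22, w23_22', w14_12, w14_12', w16_12, w16_12', w19_12, w19_12', w21_12, w21_12', w14_13, w14_13', w15_13, w15_13', w19_13, w19_13', w20_13, w20_13', w18_14, w18_14', w22_14, w22_14', w18_15, w18_15', w21_15, w21_15', w18_16, w18_16', w20_16, w20_16', w18_17, w18_17', w19_17, w19_17']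
  all_goals ring_nf

theorem P_mul16 (v12 v13 v14 v15 v16 v17 v18 v19 v20 v21 v22 v23 t : K) : P v12 v13 v14 v15 v16 v17 v18 v19 v20 v21 v22 v23 * Xr 16 t =
    P (v12) (v13) (v14) (v15) (t + v16) (v17) (v18) (v19) (v20) (v21 - t * v18) (v22) (v23 + t * v20) := by
  simp only [P, mul_assoc, merge, merge', w13_12, w13_12', w15_12, w15_12', w17_12, w17_12', w18_12, w18_12', w20_12, w20_12', w22_12, w22_12', w23_12, w23_12', w16_13, w16_13', w17_13, w17_13', w18_13, w18_13', w21_13, w21_13', w22_13, w22_13', w23_13, w23_13', w15_14, w15_14', w16_14, w16_14', w17_14, w17_14', w19_14, w19_14', w20_14, w20_14', w21_14, w21_14', w23_14, w23_14', w16_15, w16_15', w17_15, w17_15', w19_15, w19_15', w20_15, w20_15', w22_15, w22_15', w23_15, w23_15', w17_16, w17_16', w19_16, w19_16', w21_16, w21_16', w22_16, w22_16', w23_16, w23_16', w20_17, w20_17', w21_17, w21_17', w22_17, w22_17', w23_17, w23_17', w19_18, w19_18', w20_18, w20_18', w21_18, w21_18',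 w22_18, w22_18', w23_18, w23_18', w20_19, w20_19', w21_19, w21_19', w22_19, w22_19', w23_19, w23_19', w21_20, w21_20', w22_20, w22_20', w23_20, w23_20', w22_21, w22_21', w23_21, w23_21', w23_22, w23_22', w14_12, w14_12', w16_12, w16_12', w19_12, w19_12', w21_12, w21_12', w14_13, w14_13', w15_13, w15_13', w19_13, w19_13', w20_13, w20_13', w18_14, w18_14', w22_14, w22_14', w18_15, w18_15', w21_15, w21_15', w18_16, w18_16', w20_16, w20_16', w18_17, w18_17', w19_17, w19_17']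
  all_goals ring_nf

theorem P_mul17 (v12 v13 v14 v15 v16 v17 v18 v19 v20 v21 v22 v23 t : K) : P v12 v13 v14 v15 v16 v17 v18 v19 v20 v21 v22 v23 * Xr 17 t =
    P (v12) (v13) (v14) (v15) (v16) (t + v17) (v18) (v19) (v20) (v21) (v22 - t * v18) (v23 - t * v19) := by
  simp only [P, mul_assoc, merge, merge', w13_12, w13_12', w15_12, w15_12', w17_12, w17_12', w18_12, w18_12', w20_12, w20_12', w22_12, w22_12', w23_12, w23_12', w16_13, w16_13', w17_13, w17_13', w18_13, w18_13', w21_13, w21_13', w22_13, w22_13', w23_13, w23_13', w15_14, w15_14', w16_14, w16_14', w17_14, w17_14', w19_14, w19_14', w20_14, w20_14', w21_14, w21_14', w23_14, w23_14', w16_15, w16_15', w17_15, w17_15', w19_15, w19_15', w20_15, w20_15', w22_15, w22_15', w23_15, w23_15', w17_16, w17_16', w19_16, w19_16', w21_16, w21_16', w22_16, w22_16', w23_16, w23_16', w20_17, w20_17', w21_17, w21_17', w22_17, w22_17', w23_17, w23_17', w19_18, w19_18', w20_18, w20_18', w21_18, w21_18',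 w22_18, w22_18', w23_18, w23_18', w20_19, w20_19', w21_19, w21_19', w22_19, w22_19', w23_19, w23_19', w21_20, w21_20', w22_20, w22_20', w23_20, w23_20', w22_21, w22_21', w23_21, w23_21', w23_22, w23_22', w14_12, w14_12', w16_12, w16_12', w19_12, w19_12', w21_12, w21_12', w14_13, w14_13', w15_13, w15_13', w19_13, w19_13', w20_13, w20_13', w18_14, w18_14', w22_14, w22_14', w18_15, w18_15', w21_15, w21_15', w18_16, w18_16', w20_16, w20_16', w18_17, w18_17', w19_17, w19_17']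
  all_goals ring_nf

theorem P_mul18 (v12 v13 v14 v15 v16 v17 v18 v19 v20 v21 v22 v23 t : K) : P v12 v13 v14 v15 v16 v17 v18 v19 v20 v21 v22 v23 * Xr 18 t =
    P (v12) (v13) (v14) (v15) (v16) (v17) (t + v18) (v19) (v20) (v21) (v22) (v23) := by
  simp only [P, mul_assoc, merge, merge', w13_12, w13_12', w15_12, w15_12', w17_12, w17_12', w18_12, w18_12', w20_12, w20_12', w22_12, w22_12', w23_12, w23_12', w16_13, w16_13', w17_13, w17_13', w18_13, w18_13', w21_13, w21_13', w22_13, w22_13', w23_13, w23_13', w15_14, w15_14', w16_14, w16_14', w17_14, w17_14', w19_14, w19_14', w20_14, w20_14', w21_14, w21_14', w23_14, w23_14', w16_15, w16_15', w17_15, w17_15', w19_15, w19_15', w20_15, w20_15', w22_15, w22_15', w23_15, w23_15', w17_16, w17_16', w19_16, w19_16', w21_16, w21_16', w22_16, w22_16', w23_16, w23_16', w20_17, w20_17', w21_17, w21_17', w22_17, w22_17', w23_17, w23_17', w19_18, w19_18', w20_18, w20_18', w21_18, w21_18', w22_18, w22_18',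 w23_18, w23_18', w20_19, w20_19', w21_19, w21_19', w22_19, w22_19', w23_19, w23_19', w21_20, w21_20', w22_20, w22_20', w23_20, w23_20', w22_21, w22_21', w23_21, w23_21', w23_22, w23_22', w14_12, w14_12', w16_12, w16_12', w19_12, w19_12', w21_12, w21_12', w14_13, w14_13', w15_13, w15_13', w19_13, w19_13', w20_13, w20_13', w18_14, w18_14', w22_14, w22_14', w18_15, w18_15', w21_15, w21_15', w18_16, w18_16', w20_16, w20_16', w18_17, w18_17', w19_17, w19_17']
  all_goals ring_nf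

theorem P_mul19 (v12 v13 v14 v15 v16 v17 v18 v19 v20 v21 v22 v23 t : K) : P v12 v13 v14 v15 v16 v17 v18 v19 v20 v21 v22 v23 * Xr 19 t =
    P (v12) (v13) (v14) (v15) (v16) (v17) (v18) (t + v19) (v20) (v21) (v22) (v23) := by
  simp only [P, mul_assoc, merge, merge', w13_12, w13_12', w15_12, w15_12', w17_12, w17_12', w18_12, w18_12', w20_12, w20_12', w22_12, w22_12', w23_12, w23_12', w16_13, w16_13', w17_13, w17_13', w18_13, w18_13', w21_13, w21_13', w22_13, w22_13', w23_13, w23_13', w15_14, w15_14', w16_14, w16_14', w17_14, w17_14', w19_14, w19_14', w20_14, w20_14', w21_14, w21_14', w23_14, w23_14', w16_15, w16_15', w17_15, w17_15', w19_15, w19_15', w20_15, w20_15', w22_15, w22_15', w23_15, w23_15', w17_16, w17_16', w19_16, w19_16', w21_16, w21_16', w22_16, w22_16', w23_16, w23_16', w20_17, w20_17', w21_17, w21_17', w22_17, w22_17', w23_17, w23_17', w19_18, w19_18', w20_18, w20_18', w21_18, w21_18', w22_18, w22_18', w23_18, w23_18',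 w20_19, w20_19', w21_19, w21_19', w22_19, w22_19', w23_19, w23_19', w21_20, w21_20', w22_20, w22_20', w23_20, w23_20', w22_21, w22_21', w23_21, w23_21', w23_22, w23_22', w14_12, w14_12', w16_12, w16_12', w19_12, w19_12', w21_12, w21_12', w14_13, w14_13', w15_13, w15_13', w19_13, w19_13', w20_13, w20_13', w18_14, w18_14', w22_14, w22_14', w18_15, w18_15', w21_15, w21_15', w18_16, w18_16', w20_16, w20_16', w18_17, w18_17', w19_17, w19_17']
  all_goals ring_nf

theorem P_mul20 (v12 v13 v14 v15 v16 v17 v18 v19 v20 v21 v22 v23 t : K) : P v12 v13 v14 v15 v16 v17 v18 v19 v20 v21 v22 v23 * Xr 20 t =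
    P (v12) (v13) (v14) (v15) (v16) (v17) (v18) (v19) (t + v20) (v21) (v22) (v23) := by
  simp only [P, mul_assoc, merge, merge', w13_12, w13_12', w15_12, w15_12', w17_12, w17_12', w18_12, w18_12', w20_12, w20_12', w22_12, w22_12', w23_12, w23_12', w16_13, w16_13', w17_13, w17_13', w18_13, w18_13', w21_13, w21_13', w22_13, w22_13', w23_13, w23_13', w15_14, w15_14', w16_14, w16_14', w17_14, w17_14', w19_14, w19_14', w20_14, w20_14', w21_14, w21_14', w23_14, w23_14', w16_15, w16_15', w17_15, w17_15', w19_15, w19_15', w20_15, w20_15', w22_15, w22_15', w23_15, w23_15', w17_16, w17_16', w19_16, w19_16', w21_16, w21_16', w22_16, w22_16', w23_16, w23_16', w20_17, w20_17', w21_17, w21_17', w22_17, w22_17', w23_17, w23_17', w19_18, w19_18', w20_18, w20_18', w21_18, w21_18', w22_18, w22_18', w23_18, w23_18', w20_19, w20_19', w21_19, w21_19', w22_19, w22_19', w23_19, w23_19', w21_20, w21_20', w22_20, w22_20', w23_20, w23_20', w22_21, w22_21', w23_21,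 w23_21', w23_22, w23_22', w14_12, w14_12', w16_12, w16_12', w19_12, w19_12', w21_12, w21_12', w14_13, w14_13', w15_13, w15_13', w19_13, w19_13', w20_13, w20_13', w18_14, w18_14', w22_14, w22_14', w18_15, w18_15', w21_15, w21_15', w18_16, w18_16', w20_16, w20_16', w18_17, w18_17', w19_17, w19_17']
  all_goals ring_nf

theorem P_mul21 (v12 v13 v14 v15 v16 v17 v18 v19 v20 v21 v22 v23 t : K) : P v12 v13 v14 v15 v16 v17 v18 v19 v20 v21 v22 v23 * Xr 21 t =
    P (v12) (v13) (v14) (v15) (v16) (v17) (v18) (v19) (v20) (t + v21) (v22) (v23) := by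
  simp only [P, mul_assoc, merge, merge', w13_12, w13_12', w15_12, w15_12', w17_12, w17_12', w18_12, w18_12', w20_12, w20_12', w22_12, w22_12', w23_12, w23_12', w16_13, w16_13', w17_13, w17_13', w18_13, w18_13', w21_13, w21_13', w22_13, w22_13', w23_13, w23_13', w15_14, w15_14', w16_14, w16_14', w17_14, w17_14', w19_14, w19_14', w20_14, w20_14', w21_14, w21_14', w23_14, w23_14', w16_15, w16_15', w17_15, w17_15', w19_15, w19_15', w20_15, w20_15', w22_15, w22_15', w23_15, w23_15', w17_16, w17_16', w19_16, w19_16', w21_16, w21_16', w22_16, w22_16', w23_16, w23_16', w20_17, w20_17', w21_17, w21_17', w22_17, w22_17', w23_17, w23_17', w19_18, w19_18', w20_18, w20_18', w21_18, w21_18', w22_18, w22_18', w23_18, w23_18', w20_19, w20_19', w21_19, w21_19', w22_19, w22_19', w23_19, w23_19', w21_20, w21_20', w22_20, w22_20', w23_20, w23_20', w22_21, w22_21', w23_21, w23_21', w23_22, w23_22', w14_12, w14_12', w16_12, w16_12', w19_12, w19_12', w21_12,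 w21_12', w14_13, w14_13', w15_13, w15_13', w19_13, w19_13', w20_13, w20_13', w18_14, w18_14', w22_14, w22_14', w18_15, w18_15', w21_15, w21_15', w18_16, w18_16', w20_16, w20_16', w18_17, w18_17', w19_17, w19_17']
  all_goals ring_nf

theorem P_mul22 (v12 v13 v14 v15 v16 v17 v18 v19 v20 v21 v22 v23 t : K) : P v12 v13 v14 v15 v16 v17 v18 v19 v20 v21 v22 v23 * Xr 22 t =
    P (v12) (v13) (v14) (v15) (v16) (v17) (v18) (v19) (v20) (v21) (t + v22) (v23) := by
  simp only [P, mul_assoc, merge, merge', w13_12, w13_12', w15_12, w15_12', w17_12, w17_12', w18_12, w18_12', w20_12, w20_12', w22_12, w22_12', w23_12, w23_12', w16_13, w16_13', w17_13, w17_13', w18_13, w18_13', w21_13, w21_13', w22_13, w22_13', w23_13, w23_13', w15_14, w15_14', w16_14, w16_14', w17_14, w17_14', w19_14, w19_14', w20_14, w20_14', w21_14, w21_14', w23_14, w23_14', w16_15, w16_15', w17_15, w17_15', w19_15, w19_15', w20_15, w20_15', w22_15, w22_15', w23_15, w23_15', w17_16,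 w17_16', w19_16, w19_16', w21_16, w21_16', w22_16, w22_16', w23_16, w23_16', w20_17, w20_17', w21_17, w21_17', w22_17, w22_17', w23_17, w23_17', w19_18, w19_18', w20_18, w20_18', w21_18, w21_18', w22_18, w22_18', w23_18, w23_18', w20_19, w20_19', w21_19, w21_19', w22_19, w22_19', w23_19, w23_19', w21_20, w21_20', w22_20, w22_20', w23_20, w23_20', w22_21, w22_21', w23_21, w23_21', w23_22, w23_22', w14_12, w14_12', w16_12, w16_12', w19_12, w19_12', w21_12, w21_12', w14_13, w14_13', w15_13, w15_13', w19_13, w19_13', w20_13, w20_13', w18_14, w18_14', w22_14, w22_14', w18_15, w18_15', w21_15, w21_15', w18_16, w18_16', w20_16, w20_16', w18_17, w18_17', w19_17, w19_17']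
  all_goals ring_nf

theorem P_mul23 (v12 v13 v14 v15 v16 v17 v18 v19 v20 v21 v22 v23 t : K) : P v12 v13 v14 v15 v16 v17 v18 v19 v20 v21 v22 v23 * Xr 23 t =
    P (v12) (v13) (v14) (v15) (v16) (v17) (v18) (v19) (v20) (v21) (v22) (t + v23) := by
  simp only [P, mul_assoc, merge, merge', w13_12, w13_12', w15_12, w15_12', w17_12, w17_12', w18_12, w18_12', w20_12, w20_12', w22_12, w22_12', w23_12, w23_12', w16_13, w16_13', w17_13, w17_13', w18_13, w18_13', w21_13, w21_13', w22_13, w22_13', w23_13, w23_13', w15_14, w15_14', w16_14, w16_14', w17_14, w17_14', w19_14, w19_14', w20_14, w20_14', w21_14, w21_14', w23_14, w23_14', w16_15, w16_15', w17_15, w17_15', w19_15, w19_15', w20_15, w20_15', w22_15, w22_15', w23_15, w23_15', w17_16, w17_16', w19_16, w19_16', w21_16, w21_16', w22_16, w22_16', w23_16, w23_16', w20_17, w20_17', w21_17, w21_17', w22_17, w22_17', w23_17, w23_17', w19_18, w19_18', w20_18, w20_18', w21_18, w21_18', w22_18, w22_18',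 w23_18, w23_18', w20_19, w20_19', w21_19, w21_19', w22_19, w22_19', w23_19, w23_19', w21_20, w21_20', w22_20, w22_20', w23_20, w23_20', w22_21, w22_21', w23_21, w23_21', w23_22, w23_22', w14_12, w14_12', w16_12, w16_12', w19_12, w19_12', w21_12, w21_12', w14_13, w14_13', w15_13, w15_13', w19_13, w19_13', w20_13, w20_13', w18_14, w18_14', w22_14, w22_14', w18_15, w18_15', w21_15, w21_15', w18_16, w18_16', w20_16, w20_16', w18_17, w18_17', w19_17, w19_17']
  all_goals ring_nf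

theorem P_zero : P (0 : K) (0 : K) (0 : K) (0 : K) (0 : K) (0 : K) (0 : K) (0 : K) (0 : K) (0 : K) (0 : K) (0 : K) = 1 := by
  simp [P, xg_zero hC]

end Cfsg.Agent.SimpleFacts.TrialitySubfield
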