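import Cfsg.Agent.SimpleFacts.TrialitySubfield.Param

/-!
Conjugates of the highest root elements by an overgroup of the fixed points are fixed.
-/

set_option autoImplicit false
set_option linter.unusedSimpArgs false
set_option linter.unusedSectionVars false

namespace Cfsg.Agent.SimpleFacts.TrialitySubfield

open Cfsg.Lie Cfsg.Agent.Chevalley Cfsg.Agent.Chevalley.Table Cfsg.Agent.Chevalley.Cert
  Cfsg.Agent.Chevalley.Group Cfsg.Agent.Chevalley.Unip Cfsg.Agent.Chevalley.Borel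
  Cfsg.Agent.Chevalley.Weyl Cfsg.Agent.Chevalley.NormalForm Cfsg.Agent.Chevalley.FieldAut
  Cfsg.Agent.SimpleFacts.ChevalleySubfield Cfsg.Agent.SimpleFacts.SubfieldOvergroup
  Cfsg.Agent.Chevalley.Twist Cfsg.Agent.Chevalley.Twist.D4

attribute [local irreducible] P eA eC eD eN xg

variable {K : Type*} [Field K]

local notation "Xr" => xg (F := K) hC
local notation "nb" => nL hC K [1]
local notation "na" => nL hC K [3, 2, 0]

theorem commute_conj {G : Type*} [Group G] {g x : G} (h : Commute g x) : g * x * g⁻¹ = x := by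
  rw [h.eq, mul_inv_cancel_right]

theorem conj_mul_eq {G : Type*} [Group G] (g h x : G) :
    g * h * x * (g * h)⁻¹ = g * (h * x * h⁻¹) * g⁻¹ := by
  group

theorem conj_back {G : Type*} [Group G] (m a d x : G) :
    m⁻¹ * (m * a * m⁻¹ * (m * d * m⁻¹) * (m * x * m⁻¹) * (m * a * m⁻¹ * (m * d * m⁻¹))⁻¹) *
      (m⁻¹)⁻¹ = a * d * x * (a * d)⁻¹ := by
  group

/-- Membership in the unipotent group after a monomial conjugation. -/
theorem conj_xg_mem_U {L : List ℕ} (hL : ∀ i ∈ L, i < chevD4.rank) {r : ℕ} (hr : r < 24)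
    (hp : wL chevD4 L r ∈ [12, 13, 14, 15, 16, 17, 18, 19, 20, 21, 22, 23]) (t : K) :
    Xr r t ∈ (chevD4.posUnipotent K).comap (MulAut.conj (nL hC K L)).toMonoidHom := by
  show nL hC K L * Xr r t * (nL hC K L)⁻¹ ∈ chevD4.posUnipotent K
  rw [nL_conj_eta hL (lt24 hr)]
  exact mem_posU hp _

theorem moves_ok :
    ((∀ i ∈ [1, 3, 2, 0, 1], i < chevD4.rank) ∧ ∀ r ∈ [0, 17, 20, 21],
      wL chevD4 [1, 3, 2, 0, 1] r ∈ [12, 13, 14, 15, 16, 17, 18, 19, 20, 21, 22, 23]) ∧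
    ((∀ i ∈ [1, 3, 2, 0, 1, 3, 2, 0], i < chevD4.rank) ∧ ∀ r ∈ [0, 19, 16, 15],
      wL chevD4 [1, 3, 2, 0, 1, 3, 2, 0] r ∈ [12, 13, 14, 15, 16, 17, 18, 19, 20, 21, 22, 23]) ∧
    ((∀ i ∈ [1, 3, 2, 0, 1, 3, 2, 0, 1], i < chevD4.rank) ∧ ∀ r ∈ [18, 13, 12, 0, 1],
      wL chevD4 [1, 3, 2, 0, 1, 3, 2, 0, 1] r ∈ [12, 13, 14, 15, 16, 17, 18, 19, 20, 21, 22, 23]) ∧
    (∀ r ∈ [19, 16, 15, 9],
      wL chevD4 [1] r ∈ [12, 13, 14, 15, 16, 17, 18, 19, 20, 21, 22, 23]) ∧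
    wL chevD4 [1] 1 = 0 := by
  decide +kernel

variable [Fintype K] {q : ℕ} {hK : Fintype.card K = q ^ 3}
variable (X : Setup (K := K) hK) (θ : K →+* K) (hθ : ∀ t, θ t = t ^ q)
  {H : Subgroup (GL chevD4.Idx K)} (hH : Over θ q H) (hV : ∀ t, eA θ t ∈ H → θ t = t)
  (hq : IsPrimePow q)

/-- An element whose membership in `H` forces it to be fixed. -/
def Good (θ : K →+* K) (H : Subgroup (GL chevD4.Idx K)) (y : GL chevD4.Idx K) : Prop :=
  y ∈ H → Fixed chevD4 θ y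

theorem Good.conj {m y : GL chevD4.Idx K} (hm : m ∈ H) (hf : Fixed chevD4 θ m)
    (h : Good θ H y) : Good θ H (m * y * m⁻¹) := fun hy =>
  Fixed.mul θ (Fixed.mul θ hf (h ((conj_mem_iff hm).1 hy))) (Fixed.inv θ hf)

include X hθ hH hV hq

theorem good_of_moved {L : List ℕ} (hn : nL hC K L ∈ H) {y : GL chevD4.Idx K}
    (h : y ∈ (chevD4.posUnipotent K).comap (MulAut.conj (nL hC K L)).toMonoidHom) :
    Good θ H y := fun hy => by
  have h1 := fixed_of_mem_U X θ hθ hH hV hq (u := nL hC K L * y * (nL hC K L)⁻¹) h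
    (conj_mem hn hy)
  have h2 := Fixed.mul θ (Fixed.mul θ (Fixed.inv θ (fixed_nL θ L)) h1) (fixed_nL θ L)
  simpa [mul_assoc] using h2

omit hV hq in
theorem monos_mem_H : nL hC K [1, 3, 2, 0, 1] ∈ H ∧ nL hC K [1, 3, 2, 0, 1, 3, 2, 0] ∈ H ∧
    nL hC K [1, 3, 2, 0, 1, 3, 2, 0, 1] ∈ H := by
  have hb := nb_mem_H X θ hθ hH
  have ha := na_mem_H X θ hθ hH
  refine ⟨?_, ?_, ?_⟩
  · rw [show ([1, 3, 2, 0, 1] : List ℕ) = [1] ++ [3, 2, 0] ++ [1] from rfl, nL_append, nL_append]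
    exact mul_mem (mul_mem hb ha) hb
  · rw [show ([1, 3, 2, 0, 1, 3, 2, 0] : List ℕ) = [1] ++ [3, 2, 0] ++ [1] ++ [3, 2, 0] from rfl,
      nL_append, nL_append, nL_append]
    exact mul_mem (mul_mem (mul_mem hb ha) hb) ha
  · rw [show ([1, 3, 2, 0, 1, 3, 2, 0, 1] : List ℕ) =
      [1] ++ [3, 2, 0] ++ [1] ++ [3, 2, 0] ++ [1] from rfl, nL_append, nL_append, nL_append,
      nL_append]
    exact mul_mem (mul_mem (mul_mem (mul_mem hb ha) hb) ha) hb

theorem good_D_x0 (d μ : K) : Good θ H (eD θ d * Xr 0 μ * (eD θ d)⁻¹) := by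
  obtain ⟨⟨hL, hp⟩, -⟩ := moves_ok
  refine good_of_moved X θ hθ hH hV hq (monos_mem_H X θ hθ hH).1 ?_
  have hD : eD θ d ∈ (chevD4.posUnipotent K).comap
      (MulAut.conj (nL hC K [1, 3, 2, 0, 1])).toMonoidHom := by
    unfold eD
    exact mul_mem (mul_mem (conj_xg_mem_U hL (by decide) (hp 17 (by simp)) _)
      (conj_xg_mem_U hL (by decide) (hp 20 (by simp)) _))
      (conj_xg_mem_U hL (by decide) (hp 21 (by simp)) _)
  exact mul_mem (mul_mem hD (conj_xg_mem_U hL (by decide) (hp 0 (by simp)) _)) (inv_mem hD)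

theorem good_C_x0 (c μ : K) : Good θ H (eC θ c * Xr 0 μ * (eC θ c)⁻¹) := by
  obtain ⟨-, ⟨hL, hp⟩, -⟩ := moves_ok
  refine good_of_moved X θ hθ hH hV hq (monos_mem_H X θ hθ hH).2.1 ?_
  have hD : eC θ c ∈ (chevD4.posUnipotent K).comap
      (MulAut.conj (nL hC K [1, 3, 2, 0, 1, 3, 2, 0])).toMonoidHom := by
    unfold eC
    exact mul_mem (mul_mem (conj_xg_mem_U hL (by decide) (hp 19 (by simp)) _)
      (conj_xg_mem_U hL (by decide) (hp 16 (by simp)) _))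
      (conj_xg_mem_U hL (by decide) (hp 15 (by simp)) _)
  exact mul_mem (mul_mem hD (conj_xg_mem_U hL (by decide) (hp 0 (by simp)) _)) (inv_mem hD)

theorem good_A_x0x1 (y m₀ m₁ : K) :
    Good θ H (eA θ y * (Xr 0 m₀ * Xr 1 m₁) * (eA θ y)⁻¹) := by
  obtain ⟨-, -, ⟨hL, hp⟩, -⟩ := moves_ok
  refine good_of_moved X θ hθ hH hV hq (monos_mem_H X θ hθ hH).2.2 ?_
  have hD : eA θ y ∈ (chevD4.posUnipotent K).comap
      (MulAut.conj (nL hC K [1, 3, 2, 0, 1, 3, 2, 0, 1])).toMonoidHom := by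
    unfold eA
    exact mul_mem (mul_mem (conj_xg_mem_U hL (by decide) (hp 18 (by simp)) _)
      (conj_xg_mem_U hL (by decide) (hp 13 (by simp)) _))
      (conj_xg_mem_U hL (by decide) (hp 12 (by simp)) _)
  exact mul_mem (mul_mem hD (mul_mem (conj_xg_mem_U hL (by decide) (hp 0 (by simp)) _)
    (conj_xg_mem_U hL (by decide) (hp 1 (by simp)) _))) (inv_mem hD)

omit hV hq in
theorem pair_mem_H {e f : K} (he : θ e = e) (hf : θ f = f) :
    Xr 22 e * Xr 23 f ∈ H ∧ Fixed chevD4 θ (Xr 22 e * Xr 23 f) :=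
  ⟨mul_mem (long_mem_H X θ hθ hH (by simp) he) (long_mem_H X θ hθ hH (by simp) hf),
    Fixed.mul θ (fixed_xg hC θ he) (fixed_xg hC θ hf)⟩

/-- The hard case. -/
theorem good_CD_x0 (c d μ : K) : Good θ H (eC θ c * eD θ d * Xr 0 μ * (eC θ c * eD θ d)⁻¹) := by
  have h3 := cube θ hθ hK
  have hT : ∀ x : K, θ (trc θ x) = trc θ x := fun x => by
    simp only [trc, map_add, h3]; ring
  by_cases hc : θ c = c
  · rw [conj_mul_eq]
    exact Good.conj θ (eC_fixed_mem X θ hθ hH hc) (fixed_eC θ hc) (good_D_x0 X θ hθ hH hV hq d μ)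
  by_cases hk : ∃ k : K, θ k = k ∧ θ (d - k * c) = d - k * c
  · obtain ⟨k, hk, hdk⟩ := hk
    have e := A_mul_CD θ h3 (-k) c d
    obtain ⟨d', hd'⟩ : ∃ d', d' = d + -(θ (-k) * θ (θ c) + θ (θ (-k)) * θ c) := ⟨_, rfl⟩
    have hd'f : θ d' = d' := by
      have : d' = d - k * c + k * trc θ c := by
        rw [hd']; simp only [trc, map_neg, hk]; ring
      rw [this, map_add, hdk, map_mul, hk, hT]
    rw [← hd'] at e
    obtain ⟨L, hLdef⟩ : ∃ L, L = Xr 22 (trc θ (c * θ (-k) * θ (θ (-k))) - trc θ (-k * d)) *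
        Xr 23 (trc θ (-k * θ c * θ (θ c)) - trc θ (c * d)) := ⟨_, rfl⟩
    rw [← hLdef] at e
    have hL : L ∈ H ∧ Fixed chevD4 θ L := hLdef ▸ pair_mem_H X θ hθ hH
      (by rw [map_sub, hT, hT]) (by rw [map_sub, hT, hT])
    have hkn : θ (-k) = -k := by rw [map_neg, hk]
    have hA := eA_fixed_mem X θ hθ hH hkn
    have eq : eC θ c * eD θ d * Xr 0 μ * (eC θ c * eD θ d)⁻¹ =
        (eA θ (-k))⁻¹ * L * eD θ d' * (eC θ c * Xr 0 μ * (eC θ c)⁻¹) *
          ((eA θ (-k))⁻¹ * L * eD θ d')⁻¹ := by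
      have e' : eC θ c * eD θ d = (eA θ (-k))⁻¹ * L * eD θ d' * eC θ c * eA θ (-k) := by
        rw [← inv_mul_cancel_left (eA θ (-k)) (eC θ c * eD θ d), e]; simp only [mul_assoc]
      rw [e', conj_mul_eq _ (eA θ (-k)), commute_conj (commute_eA_x0 θ μ _), conj_mul_eq]
    rw [eq]
    exact Good.conj θ (mul_mem (mul_mem (inv_mem hA) hL.1) (eD_fixed_mem X θ hθ hH hd'f))
      (Fixed.mul θ (Fixed.mul θ (Fixed.inv θ (fixed_eA θ hkn)) hL.2) (fixed_eD θ hd'f))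
      (good_C_x0 X θ hθ hH hV hq c μ)
  -- now `1`, `c`, `d` are independent over the fixed field
  have hinj : ∀ α β γ : K, θ α = α → θ β = β → θ γ = γ → α + β * c + γ * d = 0 →
      α = 0 ∧ β = 0 ∧ γ = 0 := by
    intro α β γ hα hβ hγ h
    by_cases hg : γ = 0
    · subst hg
      by_cases hb : β = 0
      · subst hb; exact ⟨by linear_combination h, rfl, rfl⟩
      · refine absurd ?_ hc
        rw [show c = -α / β by field_simp; linear_combination h]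
        rw [map_div₀, map_neg, hα, hβ]
    · refine absurd ⟨-β / γ, by rw [map_div₀, map_neg, hβ, hγ], ?_⟩ hk
      rw [show d - -β / γ * c = -α / γ by field_simp; linear_combination h]
      rw [map_div₀, map_neg, hα, hγ]
  obtain ⟨α, β, γ, hα, hβ, hγ, hcd⟩ := span_top (q := q) θ hθ hK hq.two_le hinj (c * d)
  obtain ⟨c', hc'⟩ : ∃ c', c' = c - γ := ⟨_, rfl⟩
  obtain ⟨d', hd'⟩ : ∃ d', d' = d - β := ⟨_, rfl⟩
  obtain ⟨κ, hκ⟩ : ∃ κ, κ = c' * d' := ⟨_, rfl⟩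
  have hκf : θ κ = κ := by
    rw [hκ, show c' * d' = α + γ * β by rw [hc', hd']; linear_combination -hcd]
    rw [map_add, map_mul, hα, hγ, hβ]
  have hc0 : c' ≠ 0 := fun e => hc (by
    rw [show c = γ by rw [hc'] at e; linear_combination e, hγ])
  have hd0 : d' ≠ 0 := fun e => hk ⟨0, map_zero θ, by
    rw [zero_mul, sub_zero, show d = β by rw [hd'] at e; linear_combination e, hβ]⟩
  obtain ⟨s, hs⟩ : ∃ s, s = nrm θ c' / κ := ⟨_, rfl⟩
  have hNc : nrm θ c' ≠ 0 := by simp [nrm, hc0]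
  have hκ0 : κ ≠ 0 := hκ ▸ mul_ne_zero hc0 hd0
  have hs0 : s ≠ 0 := hs ▸ div_ne_zero hNc hκ0
  have hsf : θ s = s := by
    rw [hs, map_div₀, hκf]; simp only [nrm, map_mul, h3]; ring
  obtain ⟨y, hy⟩ : ∃ y, y = -c' / s := ⟨_, rfl⟩
  have hsy : s * y = -c' := by rw [hy, mul_div_cancel₀ _ hs0]
  have hsy1 : s * θ y = -θ c' := by rw [← map_neg, ← hsy, map_mul, hsf]
  have hsy2 : s * θ (θ y) = -θ (θ c') := by
    rw [← map_neg θ (θ c'), ← hsy1, map_mul, hsf]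
  have hD1 : s * (θ y * θ (θ y)) = d' := by
    refine mul_left_cancel₀ hs0 ?_
    calc s * (s * (θ y * θ (θ y))) = s * θ y * (s * θ (θ y)) := by ring
      _ = θ c' * θ (θ c') := by rw [hsy1, hsy2]; ring
      _ = s * d' := by
        rw [hs, hκ]; simp only [nrm]; field_simp
  have hD : Xr 17 (s * (θ y * θ (θ y))) * Xr 20 (-(s * (θ (θ y) * y))) * Xr 21 (-(s * (y * θ y))) =
      eD θ d' := by
    have e2 : s * (θ (θ y) * y) = θ d' := by rw [← hD1, map_mul, map_mul, hsf, h3]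
    have e3 : s * (y * θ y) = θ (θ d') := by rw [← e2, map_mul, map_mul, hsf, h3]
    rw [eD, hD1, e2, e3]
  have hC' : Xr 19 (-(s * y)) * Xr 16 (s * θ y) * Xr 15 (s * θ (θ y)) = eC θ c' := by
    rw [eC, hsy, neg_neg, hsy1, hsy2]
  have e := eA_conj_B θ h3 y s
  rw [hD, hC'] at e
  obtain ⟨L, hLdef⟩ : ∃ L, L = Xr 22 (-(s * nrm θ y)) * Xr 23 (nrm θ y * s ^ 2) := ⟨_, rfl⟩
  rw [← hLdef] at e
  have hNy : θ (nrm θ y) = nrm θ y := by simp only [nrm, map_mul, h3]; ring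
  have hL : L ∈ H ∧ Fixed chevD4 θ L := hLdef ▸ pair_mem_H X θ hθ hH
    (by rw [map_neg, map_mul, hsf, hNy]) (by rw [map_mul, map_pow, hsf, hNy])
  have hB := long_mem_H X θ hθ hH (r := 14) (by simp) hsf
  -- the product of the two middle elements, seen through the conjugate of the long element
  have hmid : eD θ d' * eC θ c' = (L * Xr 14 s)⁻¹ * (eA θ y * Xr 14 s * eA θ (-y)) := by
    rw [e, eq_inv_mul_iff_mul_eq]
    have hB' : Xr 14 s * (eD θ d' * eC θ c') = eD θ d' * eC θ c' * Xr 14 s :=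
      (Commute.mul_right (B_comm_D θ s d') (B_comm_C θ s c')).eq
    rw [mul_assoc L, hB']
    simp only [mul_assoc]
  have hsplit := CD_split θ γ c' β d'
  rw [show γ + c' = c by rw [hc']; ring, show β + d' = d by rw [hd']; ring] at hsplit
  obtain ⟨Z, hZdef⟩ : ∃ Z, Z = Xr 23 (-trc θ (c' * d)) * (eC θ γ * eD θ β) *
      (L * Xr 14 s)⁻¹ := ⟨_, rfl⟩
  have hZ : Z ∈ H ∧ Fixed chevD4 θ Z := by
    have hzf : θ (-trc θ (c' * d)) = -trc θ (c' * d) := by rw [map_neg, hT]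
    rw [hZdef]
    exact ⟨mul_mem (mul_mem (long_mem_H X θ hθ hH (by simp) hzf)
      (mul_mem (eC_fixed_mem X θ hθ hH hγ) (eD_fixed_mem X θ hθ hH hβ))) (inv_mem (mul_mem hL.1 hB)),
      Fixed.mul θ (Fixed.mul θ (fixed_xg hC θ hzf) (Fixed.mul θ (fixed_eC θ hγ) (fixed_eD θ hβ)))
        (Fixed.inv θ (Fixed.mul θ hL.2 (fixed_xg hC θ hsf)))⟩
  have hCD : eC θ c * eD θ d = Z * (eA θ y * Xr 14 s) * eA θ (-y) := by
    rw [hsplit, hmid, hZdef]; simp only [mul_assoc]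
  have ei : (eA θ y)⁻¹ = eA θ (-y) := inv_eq_of_mul_eq_one_right (by
    rw [eA_add, add_neg_cancel, eA_zero])
  have eq : eC θ c * eD θ d * Xr 0 μ * (eC θ c * eD θ d)⁻¹ =
      Z * (eA θ y * (Xr 0 μ * Xr 1 (-(s * μ))) * (eA θ y)⁻¹) * Z⁻¹ := by
    rw [hCD, conj_mul_eq _ (eA θ (-y)), commute_conj (commute_eA_x0 θ μ _), conj_mul_eq,
      conj_mul_eq (eA θ y), xg_inv hC, B_conj_x0]
  rw [eq]
  exact Good.conj θ hZ.1 hZ.2 (good_A_x0x1 X θ hθ hH hV hq y μ _)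

/-- All conjugates of a long root element by the unipotent group. -/
theorem good_form (β : ℕ) (hβ : β ∈ longs) (b a c d e f μ : K) (hb : θ b = b) (he : θ e = e)
    (hf : θ f = f) :
    Good θ H (form θ b a c d e f * Xr β μ * (form θ b a c d e f)⁻¹) := by
  have hlong : Xr 14 b * Xr 22 e * Xr 23 f ∈ H ∧
      Fixed chevD4 θ (Xr 14 b * Xr 22 e * Xr 23 f) := by
    have h14 := long_mem_H X θ hθ hH (r := 14) (by simp) hb
    have h22 := long_mem_H X θ hθ hH (r := 22) (by simp) he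
    have h23 := long_mem_H X θ hθ hH (r := 23) (by simp) hf
    exact ⟨mul_mem (mul_mem h14 h22) h23,
      Fixed.mul θ (Fixed.mul θ (fixed_xg hC θ hb) (fixed_xg hC θ he)) (fixed_xg hC θ hf)⟩
  obtain ⟨W, hW⟩ : ∃ W, W = Xr 14 b * Xr 22 e * Xr 23 f := ⟨_, rfl⟩
  rw [← hW] at hlong
  have eform : form θ b a c d e f = W * (eC θ c * eD θ d * eA θ a) := by
    rw [form, hW]; simp only [mul_assoc]
  rw [eform, conj_mul_eq]
  refine Good.conj θ hlong.1 hlong.2 ?_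
  obtain ⟨-, -, -, hp9, e10⟩ := moves_ok
  simp only [List.mem_cons, List.not_mem_nil, or_false] at hβ
  have hpos : β ∈ [14, 22, 23] → Good θ H (eC θ c * eD θ d * eA θ a * Xr β μ *
      (eC θ c * eD θ d * eA θ a)⁻¹) := fun hβ' hy => by
    have hu := mul_mem (mul_mem (eC_mem_U θ c) (eD_mem_U θ d)) (eA_mem_U θ a)
    refine fixed_of_mem_U X θ hθ hH hV hq (mul_mem (mul_mem hu (mem_posU ?_ μ)) (inv_mem hu)) hy
    revert hβ'; simp only [List.mem_cons, List.not_mem_nil, or_false]; omega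
  rcases hβ with rfl | rfl | rfl | rfl | rfl | rfl
  · exact hpos (by simp)
  · exact hpos (by simp)
  · exact hpos (by simp)
  · -- the negative of the long simple root
    rw [conj_mul_eq _ (eA θ a), commute_conj (commute_eA_x9 θ μ _), conj_mul_eq,
      commute_conj (commute_eD_x9 θ μ _)]
    refine good_of_moved X θ hθ hH hV hq (nb_mem_H X θ hθ hH) ?_
    have hC1 : eC θ c ∈ (chevD4.posUnipotent K).comap
        (MulAut.conj (nL hC K [1])).toMonoidHom := by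
      unfold eC
      exact mul_mem (mul_mem (conj_xg_mem_U hLb (by decide) (hp9 19 (by simp)) _)
        (conj_xg_mem_U hLb (by decide) (hp9 16 (by simp)) _))
        (conj_xg_mem_U hLb (by decide) (hp9 15 (by simp)) _)
    exact mul_mem (mul_mem hC1 (conj_xg_mem_U hLb (by decide) (hp9 9 (by simp)) _)) (inv_mem hC1)
  · -- the negative of the middle long root
    have h3 := cube θ hθ hK
    have hT : ∀ x : K, θ (trc θ x) = trc θ x := fun x => by
      simp only [trc, map_add, h3]; ring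
    rw [CDA_eq θ h3]
    obtain ⟨d', hd'⟩ : ∃ d', d' = d + (θ a * θ (θ c) + θ (θ a) * θ c) := ⟨_, rfl⟩
    rw [← hd', conj_mul_eq _ (eA θ a * eD θ d' * eC θ c)]
    have hpair := pair_mem_H X θ hθ hH (e := -trc θ (c * θ a * θ (θ a)) + trc θ (a * d'))
      (f := -trc θ (c * d) - trc θ (a * θ c * θ (θ c))) (by rw [map_add, map_neg, hT, hT])
      (by rw [map_sub, map_neg, hT, hT])
    refine Good.conj θ hpair.1 hpair.2 ?_
    rw [conj_mul_eq _ (eC θ c), commute_conj (commute_eC_x1 θ μ _)]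
    have eq : eA θ a * eD θ d' * Xr 1 μ * (eA θ a * eD θ d')⁻¹ =
        nb⁻¹ * (eC θ a * eD θ d' * Xr 0 ((etaW [1] 1 : K) * μ) * (eC θ a * eD θ d')⁻¹) *
          (nb⁻¹)⁻¹ := by
      have e := conj_back nb (eA θ a) (eD θ d') (Xr 1 μ)
      rw [nb_conj_A, nb_conj_D, nL_conj_eta hLb (lt24 (by decide)), e10] at e
      exact e.symm
    rw [eq]
    exact Good.conj θ (inv_mem (nb_mem_H X θ hθ hH)) (Fixed.inv θ (fixed_nL θ _))
      (good_CD_x0 X θ hθ hH hV hq _ _ _)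
  · rw [conj_mul_eq _ (eA θ a), commute_conj (commute_eA_x0 θ μ _)]
    exact good_CD_x0 X θ hθ hH hV hq _ _ _

/-- The conjugates of the highest root elements are fixed. -/
theorem fixed_conj_highest {g : GL chevD4.Idx K} (hg : g ∈ H) {l : K} (hl : θ l = l) :
    Fixed chevD4 θ (g * Xr 23 l * g⁻¹) := by
  have hx : Xr 23 l ∈ H := long_mem_H X θ hθ hH (by simp) hl
  have hy : g * Xr 23 l * g⁻¹ ∈ H := conj_mem hg hx
  have hgF : g ∈ Fx X.S := by rw [Fx_eq X.O X.gen]; exact hH.le hg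
  obtain ⟨v, hv, hvF, n, hn, hnF, u, hu, huF, rfl⟩ := fixed_form X.S hgF
  obtain ⟨w, hw, hu'⟩ : ∃ w, w = n * Xr 23 l * n⁻¹ ∧
      v * n * u * Xr 23 l * (v * n * u)⁻¹ = v * w * v⁻¹ := by
    refine ⟨_, rfl, ?_⟩
    rw [conj_mul_eq (v * n) u, commute_conj (top_central (Uminus_le_U hC n hu) l), conj_mul_eq]
  obtain ⟨t, L, hL, rfl⟩ := (mem_N_iff hC).1 hn
  have h23 : (23 : ℕ) < chevD4.nroots := lt24 (by decide)
  have hwx : w = Xr (wL chevD4 L 23) ((torChar chevD4 t (wL chevD4 L 23) : K) *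
      ((etaW L 23 : K) * l)) := by
    rw [hw, conj_mul_eq, nL_conj_eta hL h23, tor_conj_x hC _ _ _ (wL_lt hC hL h23)]
  have hρ : X.S.ρ (wL chevD4 L 23) = wL chevD4 L 23 := by
    rw [← fixed_equivariant X.S hL hnF h23, X.ρ_eq]
    rw [show Types.GAut.tabD4a.ρ 23 = 23 from by decide +kernel]
  have hβ : wL chevD4 L 23 ∈ longs := by
    rw [X.ρ_eq] at hρ
    exact fixed_roots _ (lt_of_lt_of_eq (wL_lt hC hL h23) (by decide +kernel)) hρ
  have hnG : tor chevD4 t * nL hC K L ∈ twistedD4 K q := by rw [← Fx_eq X.O X.gen]; exact hnF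
  have hwG : w ∈ twistedD4 K q := hw ▸ conj_mem hnG (long_mem X θ hθ 23 (by simp) hl)
  have hμ := long_param X θ hθ hq _ hβ (hwx ▸ hwG)
  obtain ⟨b, a, c, d, e, f, hb, he, hf, rfl⟩ := exists_unip_form X θ hθ hq hv
    (by rw [← Fx_eq X.O X.gen]; exact hvF)
  rw [hu'] at hy ⊢
  rw [hwx] at hy ⊢
  exact good_form X θ hθ hH hV hq _ hβ b a c d e f _ hb he hf hy

end Cfsg.Agent.SimpleFacts.TrialitySubfield
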