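import Cfsg.Agent.SimpleFacts.TrialitySubfield.Collect
import Cfsg.Agent.Lib.Chevalley.Twist.CountD4
import Cfsg.Agent.SimpleFacts.SubfieldOvergroup.Basic

/-!
The elements of the short root groups of a triality twisted group and their relations.
-/

set_option autoImplicit false
set_option linter.unusedSimpArgs false

namespace Cfsg.Agent.SimpleFacts.TrialitySubfield

open Cfsg.Lie Cfsg.Agent.Chevalley Cfsg.Agent.Chevalley.Table Cfsg.Agent.Chevalley.Cert
  Cfsg.Agent.Chevalley.Group Cfsg.Agent.Chevalley.Unip Cfsg.Agent.Chevalley.Borel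
  Cfsg.Agent.Chevalley.Weyl Cfsg.Agent.Chevalley.Twist.D4

variable {K : Type*} [Field K] (θ : K →+* K)

local notation "Xr" => xg (F := K) hC

/-- The short simple root element. -/
def eA (t : K) : GL chevD4.Idx K := Xr 18 t * Xr 13 (θ t) * Xr 12 (θ (θ t))

/-- The middle short root element. -/
def eC (t : K) : GL chevD4.Idx K := Xr 19 t * Xr 16 (-θ t) * Xr 15 (-θ (θ t))

/-- The highest short root element. -/
def eD (t : K) : GL chevD4.Idx K := Xr 17 t * Xr 20 (-θ t) * Xr 21 (-θ (θ t))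

/-- The negative short simple root element. -/
def eN (t : K) : GL chevD4.Idx K := Xr 5 t * Xr 10 (θ t) * Xr 11 (θ (θ t))

/-- The trace. -/
abbrev trc (x : K) : K := x + θ x + θ (θ x)

/-- The norm. -/
abbrev nrm (x : K) : K := x * θ x * θ (θ x)

theorem eq_of_collect {x y : GL chevD4.Idx K}
    (h : P 0 0 0 0 0 0 0 0 0 0 0 0 * x = P 0 0 0 0 0 0 0 0 0 0 0 0 * y) : x = y :=
  mul_left_cancel h

theorem eA_zero : eA θ (0 : K) = 1 := by simp [eA, xg_zero hC]

theorem eC_zero : eC θ (0 : K) = 1 := by simp [eC, xg_zero hC]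

theorem eD_zero : eD θ (0 : K) = 1 := by simp [eD, xg_zero hC]

theorem eA_add (t u : K) :
    eA θ t * eA θ u = eA θ (t + u) := by
  refine eq_of_collect ?_
  simp only [eA, eC, eD, ← mul_assoc, P_mul12, P_mul13, P_mul14, P_mul15, P_mul16, P_mul17, P_mul18, P_mul19, P_mul20, P_mul21, P_mul22, P_mul23]
  congr 1
  all_goals (try simp only [trc, nrm, map_mul, map_add, map_neg, map_zero, mul_zero])
  all_goals ring

theorem eC_add (t u : K) :
    eC θ t * eC θ u = eC θ (t + u) := by
  refine eq_of_collect ?_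
  simp only [eA, eC, eD, ← mul_assoc, P_mul12, P_mul13, P_mul14, P_mul15, P_mul16, P_mul17, P_mul18, P_mul19, P_mul20, P_mul21, P_mul22, P_mul23]
  congr 1
  all_goals (try simp only [trc, nrm, map_mul, map_add, map_neg, map_zero, mul_zero])
  all_goals ring

theorem eD_add (t u : K) :
    eD θ t * eD θ u = eD θ (t + u) := by
  refine eq_of_collect ?_
  simp only [eA, eC, eD, ← mul_assoc, P_mul12, P_mul13, P_mul14, P_mul15, P_mul16, P_mul17, P_mul18, P_mul19, P_mul20, P_mul21, P_mul22, P_mul23]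
  congr 1
  all_goals (try simp only [trc, nrm, map_mul, map_add, map_neg, map_zero, mul_zero])
  all_goals ring

theorem eA_conj_B (h3 : ∀ x, θ (θ (θ x)) = x) (t s : K) :
    eA θ t * Xr 14 s * eA θ (-t) = Xr 22 (-(s * nrm θ t)) * Xr 23 (nrm θ t * s ^ 2) * (Xr 17 (s * (θ t * θ (θ t))) * Xr 20 (-(s * (θ (θ t) * t))) * Xr 21 (-(s * (t * θ t)))) * (Xr 19 (-(s * t)) * Xr 16 (s * θ t) * Xr 15 (s * θ (θ t))) * Xr 14 s := by
  refine eq_of_collect ?_
  simp only [eA, eC, eD, ← mul_assoc, P_mul12, P_mul13, P_mul14, P_mul15, P_mul16, P_mul17, P_mul18, P_mul19, P_mul20, P_mul21, P_mul22, P_mul23]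
  congr 1
  all_goals (try simp only [trc, nrm, map_mul, map_add, map_neg, map_zero, h3])
  all_goals ring

theorem eA_conj_C (h3 : ∀ x, θ (θ (θ x)) = x) (t c : K) :
    eA θ t * eC θ c * eA θ (-t) = Xr 22 (trc θ (c * θ t * θ (θ t))) * Xr 23 (trc θ (t * θ c * θ (θ c))) * eD θ (-(θ t * θ (θ c) + θ (θ t) * θ c)) * eC θ c := by
  refine eq_of_collect ?_
  simp only [eA, eC, eD, ← mul_assoc, P_mul12, P_mul13, P_mul14, P_mul15, P_mul16, P_mul17, P_mul18, P_mul19, P_mul20, P_mul21, P_mul22, P_mul23]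
  congr 1
  all_goals (try simp only [trc, nrm, map_mul, map_add, map_neg, map_zero, h3])
  all_goals ring

theorem eA_conj_D (t d : K) :
    eA θ t * eD θ d * eA θ (-t) = Xr 22 (-trc θ (t * d)) * eD θ d := by
  refine eq_of_collect ?_
  simp only [eA, eC, eD, ← mul_assoc, P_mul12, P_mul13, P_mul14, P_mul15, P_mul16, P_mul17, P_mul18, P_mul19, P_mul20, P_mul21, P_mul22, P_mul23]
  congr 1
  all_goals (try simp only [trc, nrm, map_mul, map_add, map_neg, map_zero, mul_zero])
  all_goals ring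

theorem eC_mul_eD (c d : K) :
    eC θ c * eD θ d = Xr 23 (-trc θ (c * d)) * eD θ d * eC θ c := by
  refine eq_of_collect ?_
  simp only [eA, eC, eD, ← mul_assoc, P_mul12, P_mul13, P_mul14, P_mul15, P_mul16, P_mul17, P_mul18, P_mul19, P_mul20, P_mul21, P_mul22, P_mul23]
  congr 1
  all_goals (try simp only [trc, nrm, map_mul, map_add, map_neg, map_zero, mul_zero])
  all_goals ring

theorem middle_swap (c d u v : K) :
    eC θ c * eD θ d * (eD θ u * eC θ v) =
      Xr 23 (trc θ (v * d) - trc θ (c * u)) * (eD θ u * eC θ v * (eC θ c * eD θ d)) := by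
  refine eq_of_collect ?_
  simp only [eA, eC, eD, ← mul_assoc, P_mul12, P_mul13, P_mul14, P_mul15, P_mul16, P_mul17, P_mul18, P_mul19, P_mul20, P_mul21, P_mul22, P_mul23]
  congr 1
  all_goals (try simp only [trc, nrm, map_mul, map_add, map_neg, map_zero, mul_zero])
  all_goals ring

theorem CDA_eq (h3 : ∀ x, θ (θ (θ x)) = x) (a c d : K) :
    eC θ c * eD θ d * eA θ a = Xr 22 (-trc θ (c * θ a * θ (θ a)) + trc θ (a * (d + (θ a * θ (θ c) + θ (θ a) * θ c)))) *
      Xr 23 (-trc θ (c * d) - trc θ (a * θ c * θ (θ c))) *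
      (eA θ a * eD θ (d + (θ a * θ (θ c) + θ (θ a) * θ c)) * eC θ c) := by
  refine eq_of_collect ?_
  simp only [eA, eC, eD, ← mul_assoc, P_mul12, P_mul13, P_mul14, P_mul15, P_mul16, P_mul17, P_mul18, P_mul19, P_mul20, P_mul21, P_mul22, P_mul23]
  congr 1
  all_goals (try simp only [trc, nrm, map_mul, map_add, map_neg, map_zero, h3])
  all_goals ring

theorem A_mul_CD (h3 : ∀ x, θ (θ (θ x)) = x) (s c d : K) :
    eA θ s * (eC θ c * eD θ d) = Xr 22 (trc θ (c * θ s * θ (θ s)) - trc θ (s * d)) *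
      Xr 23 (trc θ (s * θ c * θ (θ c)) - trc θ (c * d)) *
      (eD θ (d + -(θ s * θ (θ c) + θ (θ s) * θ c)) * eC θ c) * eA θ s := by
  refine eq_of_collect ?_
  simp only [eA, eC, eD, ← mul_assoc, P_mul12, P_mul13, P_mul14, P_mul15, P_mul16, P_mul17, P_mul18, P_mul19, P_mul20, P_mul21, P_mul22, P_mul23]
  congr 1
  all_goals (try simp only [trc, nrm, map_mul, map_add, map_neg, map_zero, h3])
  all_goals ring

theorem CD_split (i c j d : K) :
    eC θ (i + c) * eD θ (j + d) = Xr 23 (-trc θ (c * (j + d))) * (eC θ i * eD θ j) * (eD θ d * eC θ c) := by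
  refine eq_of_collect ?_
  simp only [eA, eC, eD, ← mul_assoc, P_mul12, P_mul13, P_mul14, P_mul15, P_mul16, P_mul17, P_mul18, P_mul19, P_mul20, P_mul21, P_mul22, P_mul23]
  congr 1
  all_goals (try simp only [trc, nrm, map_mul, map_add, map_neg, map_zero, mul_zero])
  all_goals ring

theorem B_mul_E (s e : K) :
    Xr 14 s * Xr 22 e = Xr 23 (s * e) * Xr 22 e * Xr 14 s := by
  refine eq_of_collect ?_
  simp only [eA, eC, eD, ← mul_assoc, P_mul12, P_mul13, P_mul14, P_mul15, P_mul16, P_mul17, P_mul18, P_mul19, P_mul20, P_mul21, P_mul22, P_mul23]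
  congr 1
  all_goals (try simp only [trc, nrm, map_mul, map_add, map_neg, map_zero, mul_zero])
  all_goals ring

theorem B_comm_C (s c : K) :
    Xr 14 s * eC θ c = eC θ c * Xr 14 s := by
  refine eq_of_collect ?_
  simp only [eA, eC, eD, ← mul_assoc, P_mul12, P_mul13, P_mul14, P_mul15, P_mul16, P_mul17, P_mul18, P_mul19, P_mul20, P_mul21, P_mul22, P_mul23]
  congr 1
  all_goals (try simp only [trc, nrm, map_mul, map_add, map_neg, map_zero, mul_zero])
  all_goals ring

theorem B_comm_D (s c : K) :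
    Xr 14 s * eD θ c = eD θ c * Xr 14 s := by
  refine eq_of_collect ?_
  simp only [eA, eC, eD, ← mul_assoc, P_mul12, P_mul13, P_mul14, P_mul15, P_mul16, P_mul17, P_mul18, P_mul19, P_mul20, P_mul21, P_mul22, P_mul23]
  congr 1
  all_goals (try simp only [trc, nrm, map_mul, map_add, map_neg, map_zero, mul_zero])
  all_goals ring

theorem E_comm_A (s c : K) :
    Xr 22 s * eA θ c = eA θ c * Xr 22 s := by
  refine eq_of_collect ?_
  simp only [eA, eC, eD, ← mul_assoc, P_mul12, P_mul13, P_mul14, P_mul15, P_mul16, P_mul17, P_mul18, P_mul19, P_mul20, P_mul21, P_mul22, P_mul23]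
  congr 1
  all_goals (try simp only [trc, nrm, map_mul, map_add, map_neg, map_zero, mul_zero])
  all_goals ring

theorem E_comm_C (s c : K) :
    Xr 22 s * eC θ c = eC θ c * Xr 22 s := by
  refine eq_of_collect ?_
  simp only [eA, eC, eD, ← mul_assoc, P_mul12, P_mul13, P_mul14, P_mul15, P_mul16, P_mul17, P_mul18, P_mul19, P_mul20, P_mul21, P_mul22, P_mul23]

theorem E_comm_D (s c : K) :
    Xr 22 s * eD θ c = eD θ c * Xr 22 s := by
  refine eq_of_collect ?_
  simp only [eA, eC, eD, ← mul_assoc, P_mul12, P_mul13, P_mul14, P_mul15, P_mul16, P_mul17, P_mul18, P_mul19, P_mul20, P_mul21, P_mul22, P_mul23]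
  congr 1
  all_goals (try simp only [trc, nrm, map_mul, map_add, map_neg, map_zero, mul_zero])
  all_goals ring

theorem F_comm_A (s c : K) :
    Xr 23 s * eA θ c = eA θ c * Xr 23 s := by
  refine eq_of_collect ?_
  simp only [eA, eC, eD, ← mul_assoc, P_mul12, P_mul13, P_mul14, P_mul15, P_mul16, P_mul17, P_mul18, P_mul19, P_mul20, P_mul21, P_mul22, P_mul23]

theorem F_comm_C (s c : K) :
    Xr 23 s * eC θ c = eC θ c * Xr 23 s := by
  refine eq_of_collect ?_
  simp only [eA, eC, eD, ← mul_assoc, P_mul12, P_mul13, P_mul14, P_mul15, P_mul16, P_mul17, P_mul18, P_mul19, P_mul20, P_mul21, P_mul22, P_mul23]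
  congr 1
  all_goals (try simp only [trc, nrm, map_mul, map_add, map_neg, map_zero, mul_zero])
  all_goals ring

theorem F_comm_D (s c : K) :
    Xr 23 s * eD θ c = eD θ c * Xr 23 s := by
  refine eq_of_collect ?_
  simp only [eA, eC, eD, ← mul_assoc, P_mul12, P_mul13, P_mul14, P_mul15, P_mul16, P_mul17, P_mul18, P_mul19, P_mul20, P_mul21, P_mul22, P_mul23]
  congr 1
  all_goals (try simp only [trc, nrm, map_mul, map_add, map_neg, map_zero, mul_zero])
  all_goals ring

theorem F_comm_E (s c : K) :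
    Xr 23 s * Xr 22 c = Xr 22 c * Xr 23 s := by
  refine eq_of_collect ?_
  simp only [eA, eC, eD, ← mul_assoc, P_mul12, P_mul13, P_mul14, P_mul15, P_mul16, P_mul17, P_mul18, P_mul19, P_mul20, P_mul21, P_mul22, P_mul23]

theorem F_comm_B (s c : K) :
    Xr 23 s * Xr 14 c = Xr 14 c * Xr 23 s := by
  refine eq_of_collect ?_
  simp only [eA, eC, eD, ← mul_assoc, P_mul12, P_mul13, P_mul14, P_mul15, P_mul16, P_mul17, P_mul18, P_mul19, P_mul20, P_mul21, P_mul22, P_mul23]
  congr 1
  all_goals (try simp only [trc, nrm, map_mul, map_add, map_neg, map_zero, mul_zero])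
  all_goals ring

end Cfsg.Agent.SimpleFacts.TrialitySubfield
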