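import Cfsg.Agent.SimpleFacts.TrialitySubfield.Elements
import Cfsg.Agent.Lib.Chevalley.NormalForm
import Cfsg.Agent.SimpleFacts.SubfieldOvergroup.Basic

/-!
The monomial elements of a triality twisted group acting on the root elements, coordinates in the
unipotent group, and the relations with negative root elements.
-/

set_option autoImplicit false
set_option linter.unusedSimpArgs false

namespace Cfsg.Agent.SimpleFacts.TrialitySubfield

open Cfsg.Lie Cfsg.Agent.Chevalley Cfsg.Agent.Chevalley.Table Cfsg.Agent.Chevalley.Cert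
  Cfsg.Agent.Chevalley.Group Cfsg.Agent.Chevalley.Unip Cfsg.Agent.Chevalley.Borel
  Cfsg.Agent.Chevalley.Weyl Cfsg.Agent.Chevalley.NormalForm Cfsg.Agent.Chevalley.FieldAut
  Cfsg.Agent.SimpleFacts.ChevalleySubfield
  Cfsg.Agent.SimpleFacts.SubfieldOvergroup Cfsg.Agent.Chevalley.Twist.D4

attribute [local irreducible] P

variable {K : Type*} [Field K] (θ : K →+* K)

local notation "Xr" => xg (F := K) hC
local notation "nb" => nL hC K [1]
local notation "na" => nL hC K [3, 2, 0]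

/-- The sign with which a word of fundamental monomial elements acts on a root vector. -/
noncomputable def etaW (L : List ℕ) (r : ℕ) : ℤ :=
  match L with
  | [] => 1
  | i :: L => Data.D4.tab.eta i (wL chevD4 L r) * etaW L r

theorem lt24 {r : ℕ} (h : r < 24) : r < chevD4.nroots :=
  lt_of_lt_of_eq h (by decide +kernel)

theorem rank4 : chevD4.rank = 4 := by decide +kernel

theorem nL_conj_eta : ∀ {L : List ℕ}, (∀ i ∈ L, i < chevD4.rank) → ∀ {r : ℕ}, r < chevD4.nroots →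
    ∀ t : K, nL hC K L * Xr r t * (nL hC K L)⁻¹ = Xr (wL chevD4 L r) ((etaW L r : K) * t)
  | [], _, r, _, t => by simp [nL, wL, etaW]
  | i :: L, hL, r, hr, t => by
    have hL' : ∀ j ∈ L, j < chevD4.rank := fun j hj => hL j (List.mem_cons_of_mem i hj)
    have hi := hL i List.mem_cons_self
    have e1 : nL hC K (i :: L) = ng hC (chevD4.simple i) 1 * nL hC K L := by simp [nL]
    rw [e1, mul_inv_rev]
    calc _ = ng hC (chevD4.simple i) 1 * (nL hC K L * Xr r t * (nL hC K L)⁻¹) *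
          (ng hC (chevD4.simple i) (1 : K))⁻¹ := by simp only [mul_assoc]
      _ = _ := by
        rw [nL_conj_eta hL' hr, ng_conj_x hC hi (wL_lt hC hL' hr), ← mul_assoc, etaW, Int.cast_mul]
        rfl

theorem wb_ok : ∀ p ∈ [(18, (19, (1 : ℤ))), (13, (16, -1)), (12, (15, -1)), (19, (18, -1)),
    (16, (13, 1)), (15, (12, 1)), (17, (17, 1)), (20, (20, 1)), (21, (21, 1))],
    wL chevD4 [1] p.1 = p.2.1 ∧ etaW [1] p.1 = p.2.2 := by
  decide +kernel

theorem wa_ok : ∀ p ∈ [(19, (17, (1 : ℤ))), (16, (20, 1)), (15, (21, 1)), (18, (5, -1)),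
    (13, (10, -1)), (12, (11, -1))],
    wL chevD4 [3, 2, 0] p.1 = p.2.1 ∧ etaW [3, 2, 0] p.1 = p.2.2 := by
  decide +kernel

theorem conj_three {L : List ℕ} (hL : ∀ i ∈ L, i < chevD4.rank) {r s k r' s' k' : ℕ} {e f g : ℤ}
    (hr : r < 24) (hs : s < 24) (hk : k < 24) (er : wL chevD4 L r = r' ∧ etaW L r = e)
    (es : wL chevD4 L s = s' ∧ etaW L s = f) (ek : wL chevD4 L k = k' ∧ etaW L k = g) (t u w : K) :
    nL hC K L * (Xr r t * Xr s u * Xr k w) * (nL hC K L)⁻¹ =
      Xr r' ((e : K) * t) * Xr s' ((f : K) * u) * Xr k' ((g : K) * w) := by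
  obtain ⟨rfl, rfl⟩ := er
  obtain ⟨rfl, rfl⟩ := es
  obtain ⟨rfl, rfl⟩ := ek
  rw [← nL_conj_eta hL (lt24 hr), ← nL_conj_eta hL (lt24 hs), ← nL_conj_eta hL (lt24 hk)]
  group

theorem hLb : ∀ i ∈ [1], i < chevD4.rank := by decide +kernel

theorem hLa : ∀ i ∈ [3, 2, 0], i < chevD4.rank := by decide +kernel

theorem nb_conj_A (t : K) : nb * eA θ t * nb⁻¹ = eC θ t := by
  rw [eA, conj_three hLb (by decide) (by decide) (by decide) (wb_ok (18, (19, 1)) (by simp))
    (wb_ok (13, (16, -1)) (by simp)) (wb_ok (12, (15, -1)) (by simp))]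
  simp [eC]

theorem nb_conj_C (t : K) : nb * eC θ t * nb⁻¹ = eA θ (-t) := by
  rw [eC, conj_three hLb (by decide) (by decide) (by decide) (wb_ok (19, (18, -1)) (by simp))
    (wb_ok (16, (13, 1)) (by simp)) (wb_ok (15, (12, 1)) (by simp))]
  simp [eA]

theorem nb_conj_D (t : K) : nb * eD θ t * nb⁻¹ = eD θ t := by
  rw [eD, conj_three hLb (by decide) (by decide) (by decide) (wb_ok (17, (17, 1)) (by simp))
    (wb_ok (20, (20, 1)) (by simp)) (wb_ok (21, (21, 1)) (by simp))]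
  simp [eD]

theorem na_conj_C (t : K) : na * eC θ t * na⁻¹ = eD θ t := by
  rw [eC, conj_three hLa (by decide) (by decide) (by decide) (wa_ok (19, (17, 1)) (by simp))
    (wa_ok (16, (20, 1)) (by simp)) (wa_ok (15, (21, 1)) (by simp))]
  simp [eD]

theorem na_conj_A (t : K) : na * eA θ t * na⁻¹ = eN θ (-t) := by
  rw [eA, conj_three hLa (by decide) (by decide) (by decide) (wa_ok (18, (5, -1)) (by simp))
    (wa_ok (13, (10, -1)) (by simp)) (wa_ok (12, (11, -1)) (by simp))]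
  simp [eN]

/-! ### Fixed elements -/

theorem fixed_nL (L : List ℕ) : Fixed chevD4 θ (nL hC K L) := map_nL hC θ L

theorem map_eA (t : K) : mapGL chevD4 θ (eA θ t) = eA θ (θ t) := by
  simp [eA, map_mul, map_xg hC θ]

theorem map_eC (t : K) : mapGL chevD4 θ (eC θ t) = eC θ (θ t) := by
  simp [eC, map_mul, map_xg hC θ]

theorem map_eD (t : K) : mapGL chevD4 θ (eD θ t) = eD θ (θ t) := by
  simp [eD, map_mul, map_xg hC θ]

theorem fixed_eA {t : K} (h : θ t = t) : Fixed chevD4 θ (eA θ t) := by rw [Fixed, map_eA, h]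

theorem fixed_eC {t : K} (h : θ t = t) : Fixed chevD4 θ (eC θ t) := by rw [Fixed, map_eC, h]

theorem fixed_eD {t : K} (h : θ t = t) : Fixed chevD4 θ (eD θ t) := by rw [Fixed, map_eD, h]

/-! ### Coordinates -/

theorem pos_ok : ∀ r ∈ [12, 13, 14, 15, 16, 17, 18, 19, 20, 21, 22, 23],
    r < chevD4.nroots ∧ 0 < Data.D4.tab.phi r := by
  decide +kernel

theorem pos_list : ∀ r < 24, 0 < Data.D4.tab.phi r →
    r ∈ [12, 13, 14, 15, 16, 17, 18, 19, 20, 21, 22, 23] := by
  decide +kernel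

theorem mem_posU {r : ℕ} (h : r ∈ [12, 13, 14, 15, 16, 17, 18, 19, 20, 21, 22, 23]) (t : K) :
    Xr r t ∈ chevD4.posUnipotent K :=
  xg_mem_U hC (pos_ok r h).1 (pos_ok r h).2 t

theorem eA_mem_U (t : K) : eA θ t ∈ chevD4.posUnipotent K :=
  mul_mem (mul_mem (mem_posU (by simp) _) (mem_posU (by simp) _)) (mem_posU (by simp) _)

theorem eC_mem_U (t : K) : eC θ t ∈ chevD4.posUnipotent K :=
  mul_mem (mul_mem (mem_posU (by simp) _) (mem_posU (by simp) _)) (mem_posU (by simp) _)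

theorem eD_mem_U (t : K) : eD θ t ∈ chevD4.posUnipotent K :=
  mul_mem (mul_mem (mem_posU (by simp) _) (mem_posU (by simp) _)) (mem_posU (by simp) _)

/-- The coordinate function of `P`. -/
def coordP (v12 v13 v14 v15 v16 v17 v18 v19 v20 v21 v22 v23 : K) (r : ℕ) : K :=
  [v12, v13, v14, v15, v16, v17, v18, v19, v20, v21, v22, v23].getD (r - 12) 0

theorem P_eq_prodX (v12 v13 v14 v15 v16 v17 v18 v19 v20 v21 v22 v23 : K) :
    P v12 v13 v14 v15 v16 v17 v18 v19 v20 v21 v22 v23 =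
      prodX hC [12, 13, 14, 15, 16, 17, 18, 19, 20, 21, 22, 23]
        (coordP v12 v13 v14 v15 v16 v17 v18 v19 v20 v21 v22 v23) := by
  simp [P, prodX, coordP]

theorem P_inj {v12 v13 v14 v15 v16 v17 v18 v19 v20 v21 v22 v23 : K}
    {w12 w13 w14 w15 w16 w17 w18 w19 w20 w21 w22 w23 : K}
    (h : P v12 v13 v14 v15 v16 v17 v18 v19 v20 v21 v22 v23 =
      P w12 w13 w14 w15 w16 w17 w18 w19 w20 w21 w22 w23) :
    v12 = w12 ∧ v13 = w13 ∧ v14 = w14 ∧ v15 = w15 ∧ v16 = w16 ∧ v17 = w17 ∧ v18 = w18 ∧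
      v19 = w19 ∧ v20 = w20 ∧ v21 = w21 ∧ v22 = w22 ∧ v23 = w23 := by
  rw [P_eq_prodX, P_eq_prodX] at h
  have h' := prodX_inj hC (L := [12, 13, 14, 15, 16, 17, 18, 19, 20, 21, 22, 23]) (by decide)
    pos_ok h
  simpa [coordP] using h'

/-- The general fixed element of the unipotent group. -/
def form (b a c d e f : K) : GL chevD4.Idx K :=
  Xr 14 b * Xr 22 e * Xr 23 f * eC θ c * eD θ d * eA θ a

theorem form_inj {b a c d e f b' a' c' d' e' f' : K}
    (h : form θ b a c d e f = form θ b' a' c' d' e' f') :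
    b = b' ∧ a = a' ∧ c = c' ∧ d = d' ∧ e = e' ∧ f = f' := by
  have h' := congrArg (P (0 : K) 0 0 0 0 0 0 0 0 0 0 0 * ·) h
  simp only [form, eA, eC, eD, ← mul_assoc, P_mul12, P_mul13, P_mul14, P_mul15, P_mul16, P_mul17,
    P_mul18, P_mul19, P_mul20, P_mul21, P_mul22, P_mul23] at h'
  obtain ⟨-, -, k14, -, -, k17, k18, k19, -, -, k22, k23⟩ := P_inj h'
  ring_nf at k14 k17 k18 k19 k22 k23
  subst k14 k18
  obtain rfl : c = c' := by linear_combination k19
  obtain rfl : d = d' := by linear_combination k17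
  obtain rfl : e = e' := by linear_combination k22
  obtain rfl : f = f' := by linear_combination k23
  exact ⟨rfl, rfl, rfl, rfl, rfl, rfl⟩

theorem top_ok : ∀ r < 24, 0 < Data.D4.tab.phi r → r ≠ 23 →
    r < chevD4.nroots ∧ 23 < chevD4.nroots ∧ 23 ≠ r ∧ 23 ≠ chevD4.neg r ∧
      chevD4.commTerms r 23 = [] := by
  decide +kernel

/-- The highest root elements are central in the unipotent group. -/
theorem top_central {u : GL chevD4.Idx K} (hu : u ∈ chevD4.posUnipotent K) (l : K) :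
    Commute u (Xr 23 l) := by
  have hle : chevD4.posUnipotent K ≤ Subgroup.centralizer {Xr 23 l} := by
    rw [U_eq_closure hC, Subgroup.closure_le]
    rintro g ⟨r, t, hr, hp, rfl⟩
    rw [SetLike.mem_coe, Subgroup.mem_centralizer_singleton_iff]
    by_cases h : r = 23
    · subst h; rw [← xg_add hC, ← xg_add hC, add_comm]
    exact (swap_none (top_ok r (lt_of_lt_of_eq hr (by decide +kernel)) hp h) t l).symm
  exact Subgroup.mem_centralizer_singleton_iff.1 (hle hu)

/-- The roots fixed by the triality. -/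
theorem fixed_roots : ∀ r < 24, Types.GAut.tabD4a.ρ r = r → r ∈ [14, 22, 23, 9, 1, 0] := by
  decide +kernel

/-! ### Relations with negative root elements -/

theorem neg_comm : ∀ p ∈ [(0, 18), (0, 13), (0, 12), (0, 1), (1, 14), (1, 19), (1, 16), (1, 15),
    (9, 18), (9, 13), (9, 12), (9, 17), (9, 20), (9, 21)],
    p.1 < chevD4.nroots ∧ p.2 < chevD4.nroots ∧ p.2 ≠ p.1 ∧
    p.2 ≠ chevD4.neg p.1 ∧ chevD4.commTerms p.1 p.2 = [] := by decide +kernel

theorem comm_neg {r s : ℕ}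
    (h : (r, s) ∈ [(0, 18), (0, 13), (0, 12), (0, 1), (1, 14), (1, 19), (1, 16), (1, 15),
      (9, 18), (9, 13), (9, 12), (9, 17), (9, 20), (9, 21)]) (m t : K) :
    Commute (Xr s t) (Xr r m) :=
  swap_none (neg_comm (r, s) h) m t

theorem commute_eA_x0 (m t : K) : Commute (eA θ t) (Xr 0 m) :=
  ((comm_neg (by simp) m _).mul_left (comm_neg (by simp) m _)).mul_left (comm_neg (by simp) m _)

theorem commute_eC_x1 (m t : K) : Commute (eC θ t) (Xr 1 m) :=
  ((comm_neg (by simp) m _).mul_left (comm_neg (by simp) m _)).mul_left (comm_neg (by simp) m _)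

theorem commute_eA_x9 (m t : K) : Commute (eA θ t) (Xr 9 m) :=
  ((comm_neg (by simp) m _).mul_left (comm_neg (by simp) m _)).mul_left (comm_neg (by simp) m _)

theorem commute_eD_x9 (m t : K) : Commute (eD θ t) (Xr 9 m) :=
  ((comm_neg (by simp) m _).mul_left (comm_neg (by simp) m _)).mul_left (comm_neg (by simp) m _)

theorem B_conj_x0_ok : 0 < chevD4.nroots ∧ 14 < chevD4.nroots ∧ 14 ≠ 0 ∧ 14 ≠ chevD4.neg 0 ∧
    chevD4.commTerms 0 14 = [(1, 1, 1, 1)] := by decide +kernel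

theorem B_conj_x0 (s m : K) : Xr 14 s * Xr 0 m * Xr 14 (-s) = Xr 0 m * Xr 1 (-(s * m)) := by
  have h := swap_one B_conj_x0_ok (c := -(s * m)) m s (by push_cast; ring)
  rw [h]
  have hc : Xr 1 (-(s * m)) * Xr 14 (-s) = Xr 14 (-s) * Xr 1 (-(s * m)) :=
    ((comm_neg (by simp) (-(s * m)) (-s)).eq).symm
  rw [mul_assoc, mul_assoc, hc, ← mul_assoc (Xr 14 s), merge, add_neg_cancel, xg_zero hC, one_mul]

end Cfsg.Agent.SimpleFacts.TrialitySubfield
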