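import Cfsg.Agent.SimpleFacts.TrialitySubfield.Twisted

/-!
The parameters of the short root elements in an overgroup of the fixed points, and the unipotent
elements of such an overgroup.
-/

set_option autoImplicit false
set_option linter.unusedSimpArgs false
set_option linter.unusedSectionVars false

namespace Cfsg.Agent.SimpleFacts.TrialitySubfield

open Cfsg.Lie Cfsg.Agent.Chevalley Cfsg.Agent.Chevalley.Table Cfsg.Agent.Chevalley.Cert
  Cfsg.Agent.Chevalley.Group Cfsg.Agent.Chevalley.Unip Cfsg.Agent.Chevalley.Borel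
  Cfsg.Agent.Chevalley.Weyl Cfsg.Agent.Chevalley.NormalForm Cfsg.Agent.Chevalley.FieldAut
  Cfsg.Agent.SimpleFacts.ChevalleySubfield Cfsg.Agent.SimpleFacts.SubfieldOvergroup
  Cfsg.Agent.Chevalley.Twist Cfsg.Agent.Chevalley.Twist.D4

attribute [local irreducible] P eA eC eD eN xg

variable {K : Type*} [Field K]

local notation "Xr" => xg (F := K) hC
local notation "nb" => nL hC K [1]
local notation "na" => nL hC K [3, 2, 0]

section Group

variable {G : Type*} [Group G] {H : Subgroup G}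

theorem mem_of_long_mul {y l₁ l₂ : G} (h₁ : l₁ ∈ H) (h₂ : l₂ ∈ H) (h : l₁ * y * l₂ ∈ H) : y ∈ H := by
  have := mul_mem (mul_mem (inv_mem h₁) h) (inv_mem h₂)
  simpa [mul_assoc] using this

theorem conj_mem_iff {m x : G} (hm : m ∈ H) : m * x * m⁻¹ ∈ H ↔ x ∈ H :=
  ⟨fun h => mem_of_long_mul hm (inv_mem hm) h, fun h => mul_mem (mul_mem hm h) (inv_mem hm)⟩

end Group

variable [Fintype K] {q : ℕ} {hK : Fintype.card K = q ^ 3}

/-- A subgroup of the twisted group containing its fixed points. -/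
structure Over (θ : K →+* K) (q : ℕ) (H : Subgroup (GL chevD4.Idx K)) : Prop where
  le : H ≤ twistedD4 K q
  ge : ∀ g ∈ twistedD4 K q, Fixed chevD4 θ g → g ∈ H

variable (X : Setup (K := K) hK) (θ : K →+* K) (hθ : ∀ t, θ t = t ^ q) {H : Subgroup (GL chevD4.Idx K)}
  (hH : Over θ q H)

include X hθ hH

theorem long_mem_H {r : ℕ} (hr : r ∈ longs) {s : K} (hs : θ s = s) : Xr r s ∈ H :=
  hH.ge _ (long_mem X θ hθ r hr hs) (fixed_xg hC θ hs)

theorem nb_mem_H : nb ∈ H := hH.ge _ (nb_mem X) (fixed_nL θ _)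

theorem na_mem_H : na ∈ H := hH.ge _ (na_mem X) (fixed_nL θ _)

theorem eA_fixed_mem {t : K} (ht : θ t = t) : eA θ t ∈ H :=
  hH.ge _ (eA_mem θ hθ t) (fixed_eA θ ht)

theorem eC_fixed_mem {t : K} (ht : θ t = t) : eC θ t ∈ H :=
  hH.ge _ (eC_mem X θ hθ t) (fixed_eC θ ht)

theorem eD_fixed_mem {t : K} (ht : θ t = t) : eD θ t ∈ H :=
  hH.ge _ (eD_mem X θ hθ t) (fixed_eD θ ht)

theorem eC_mem_iff (t : K) : eC θ t ∈ H ↔ eA θ t ∈ H := by
  rw [← nb_conj_A]
  exact conj_mem_iff (nb_mem_H X θ hθ hH)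

theorem eD_mem_iff (t : K) : eD θ t ∈ H ↔ eA θ t ∈ H := by
  rw [← na_conj_C, conj_mem_iff (na_mem_H X θ hθ hH)]
  exact eC_mem_iff X θ hθ hH t

theorem scale_mem {s t : K} (hs : θ s = s) (h : eA θ t ∈ H) : eA θ (s * t) ∈ H := by
  by_cases hs0 : s = 0
  · rw [hs0, zero_mul, eA_zero]; exact one_mem _
  have hi : θ s⁻¹ = s⁻¹ := by rw [map_inv₀, hs]
  have h1 := hg14_conj_eA θ (inv_ne_zero hs0) hi t
  rw [inv_inv] at h1
  rw [← h1]
  exact conj_mem (hH.ge _ (hg14_mem θ hθ hi) (fixed_hg14 θ hi)) h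

theorem eA_neg_mem {t : K} (h : eA θ t ∈ H) : eA θ (-t) ∈ H := by
  have := scale_mem X θ hθ hH (s := -1) (by simp) h
  simpa using this

theorem inv_param_mem {t : K} (h : eA θ t ∈ H) : eA θ t⁻¹ ∈ H := by
  by_cases ht : t = 0
  · subst ht; rw [inv_zero, eA_zero]; exact one_mem _
  have h3 := cube θ hθ hK
  obtain ⟨N, hN⟩ : ∃ N, N = t * θ t * θ (θ t) := ⟨_, rfl⟩
  have hN0 : N ≠ 0 := by rw [hN]; simp [ht]
  have hNf : θ N = N := by rw [hN]; simp only [map_mul, h3]; ring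
  obtain ⟨s, hs⟩ : ∃ s, s = N⁻¹ := ⟨_, rfl⟩
  have hsf : θ s = s := by rw [hs, map_inv₀, hNf]
  have key := eA_conj_B θ h3 t s
  have hD : Xr 17 (s * (θ t * θ (θ t))) * Xr 20 (-(s * (θ (θ t) * t))) * Xr 21 (-(s * (t * θ t))) =
      eD θ t⁻¹ := by
    have e1 : s * (θ t * θ (θ t)) = t⁻¹ := by
      rw [hs, hN, mul_assoc t, mul_inv, mul_assoc, inv_mul_cancel₀ (by simp [ht]), mul_one]
    have e2 : s * (θ (θ t) * t) = θ t⁻¹ := by
      rw [← e1, map_mul, map_mul, hsf, h3]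
    have e3 : s * (t * θ t) = θ (θ t⁻¹) := by
      rw [← e2, map_mul, map_mul, hsf, h3]
    rw [eD, e1, e2, e3]
  have hCm : Xr 19 (-(s * t)) * Xr 16 (s * θ t) * Xr 15 (s * θ (θ t)) = eC θ (-(s * t)) := by
    rw [eC]; simp only [map_neg, map_mul, hsf, neg_neg]
  rw [hD, hCm] at key
  have hfE : θ (-(s * nrm θ t)) = -(s * nrm θ t) := by
    rw [show nrm θ t = N from hN.symm, map_neg, map_mul, hsf, hNf]
  have hfF : θ (nrm θ t * s ^ 2) = nrm θ t * s ^ 2 := by
    rw [show nrm θ t = N from hN.symm, map_mul, map_pow, hsf, hNf]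
  have hall : eA θ t * Xr 14 s * eA θ (-t) ∈ H :=
    mul_mem (mul_mem h (long_mem_H X θ hθ hH (by simp) hsf)) (eA_neg_mem X θ hθ hH h)
  rw [key] at hall
  have hc : eC θ (-(s * t)) ∈ H :=
    (eC_mem_iff X θ hθ hH _).2 (eA_neg_mem X θ hθ hH (scale_mem X θ hθ hH hsf h))
  have h14 := long_mem_H X θ hθ hH (r := 14) (by simp) hsf
  have hl := mul_mem (long_mem_H X θ hθ hH (r := 22) (by simp) hfE)
    (long_mem_H X θ hθ hH (r := 23) (by simp) hfF)
  refine (eD_mem_iff X θ hθ hH _).1 (mem_of_long_mul hl (mul_mem hc h14) ?_)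
  simpa only [mul_assoc] using hall

theorem sq_param_mem {t : K} (h : eA θ t ∈ H) : eA θ (t ^ 2) ∈ H := by
  by_cases ht : t = 0
  · subst ht; rw [zero_pow two_ne_zero, eA_zero]; exact one_mem _
  by_cases ht1 : t = 1
  · subst ht1; rw [one_pow]; exact h
  have h1 : eA θ (1 - t) ∈ H := by
    rw [sub_eq_add_neg, ← eA_add]
    exact mul_mem (eA_fixed_mem X θ hθ hH (map_one θ)) (eA_neg_mem X θ hθ hH h)
  have h2 : eA θ (t⁻¹ + (1 - t)⁻¹) ∈ H := by
    rw [← eA_add]
    exact mul_mem (inv_param_mem X θ hθ hH h) (inv_param_mem X θ hθ hH h1)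
  have h3 := inv_param_mem X θ hθ hH h2
  have e : t ^ 2 = t + -(t⁻¹ + (1 - t)⁻¹)⁻¹ := by
    have h1' : 1 - t ≠ 0 := sub_ne_zero.2 (Ne.symm ht1)
    have : t⁻¹ + (1 - t)⁻¹ = (t * (1 - t))⁻¹ := by field_simp; ring
    rw [this, inv_inv]; ring
  rw [e, ← eA_add]
  exact mul_mem h (eA_neg_mem X θ hθ hH h3)

omit X hH in
include hθ in
/-- A parameter outside the fixed field spans the field over it with its square. -/
theorem span_top (hK' : Fintype.card K = q ^ 3) (hq : 2 ≤ q) {c d : K}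
    (hinj : ∀ α β γ : K, θ α = α → θ β = β → θ γ = γ → α + β * c + γ * d = 0 →
      α = 0 ∧ β = 0 ∧ γ = 0) (x : K) :
    ∃ α β γ : K, θ α = α ∧ θ β = β ∧ θ γ = γ ∧ α + β * c + γ * d = x := by
  classical
  let E := {t : K // t ^ q = t}
  let ψ : E × E × E → K := fun p => (p.1 : K) + p.2.1 * c + p.2.2 * d
  have hf : ∀ y : E, θ (y : K) = y := fun y => by rw [hθ]; exact y.2
  have hψ : Function.Injective ψ := by
    intro u v huv
    obtain ⟨h1, h2, h3⟩ := hinj (u.1 - v.1) (u.2.1 - v.2.1) (u.2.2 - v.2.2)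
      (by rw [map_sub, hf, hf]) (by rw [map_sub, hf, hf]) (by rw [map_sub, hf, hf])
      (by simp only [ψ] at huv; linear_combination huv)
    exact Prod.ext (Subtype.ext (sub_eq_zero.1 h1))
      (Prod.ext (Subtype.ext (sub_eq_zero.1 h2)) (Subtype.ext (sub_eq_zero.1 h3)))
  have hc : Nat.card (E × E × E) = Nat.card K := by
    simp only [Nat.card_prod, E, card_powfix hq hK', Nat.card_eq_fintype_card (α := K), hK']
    ring
  obtain ⟨⟨α, β, γ⟩, h⟩ := ((Nat.bijective_iff_injective_and_card ψ).2 ⟨hψ, hc⟩).2 x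
  exact ⟨α, β, γ, hf α, hf β, hf γ, h⟩

omit X hH in
include hθ in
theorem quadratic_indep (hK' : Fintype.card K = q ^ 3) {t : K} (ht : θ t ≠ t) (α β γ : K)
    (hα : θ α = α) (hβ : θ β = β) (hγ : θ γ = γ) (h : α + β * t + γ * t ^ 2 = 0) :
    α = 0 ∧ β = 0 ∧ γ = 0 := by
  have h1 := congrArg θ h
  simp only [map_add, map_mul, map_pow, map_zero, hα, hβ, hγ] at h1
  have h2 := congrArg θ h1
  simp only [map_add, map_mul, map_pow, map_zero, hα, hβ, hγ] at h2
  have hne2 : θ (θ t) ≠ t := fun e => ht (by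
    have := congrArg θ e; rw [cube θ hθ hK' t] at this; exact this.symm)
  have hne1 : θ (θ t) ≠ θ t := fun e => ht (θ.injective e)
  have e1 : γ * (t + θ t) + β = 0 := by
    refine (mul_eq_zero.1 (?_ : (t - θ t) * (γ * (t + θ t) + β) = 0)).resolve_left
      (sub_ne_zero.2 (Ne.symm ht))
    linear_combination h - h1
  have e2 : γ * (t + θ (θ t)) + β = 0 := by
    refine (mul_eq_zero.1 (?_ : (t - θ (θ t)) * (γ * (t + θ (θ t)) + β) = 0)).resolve_left
      (sub_ne_zero.2 (Ne.symm hne2))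
    linear_combination h - h2
  obtain rfl : γ = 0 := by
    refine (mul_eq_zero.1 (?_ : γ * (θ t - θ (θ t)) = 0)).resolve_right (sub_ne_zero.2 (Ne.symm hne1))
    linear_combination e1 - e2
  obtain rfl : β = 0 := by linear_combination e1
  exact ⟨by linear_combination h, rfl, rfl⟩

/-- Either every parameter occurs or only the fixed ones. -/
theorem eq_or_param (hq : 2 ≤ q) (hne : H ≠ twistedD4 K q) {t : K} (h : eA θ t ∈ H) : θ t = t := by
  by_contra ht
  refine hne (le_antisymm hH.le ?_)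
  have hall : ∀ x : K, eA θ x ∈ H := by
    intro x
    obtain ⟨α, β, γ, hα, hβ, hγ, rfl⟩ := span_top (q := q) θ hθ hK hq (c := t) (d := t ^ 2)
      (fun α β γ hα hβ hγ e => quadratic_indep (q := q) θ hθ hK ht α β γ hα hβ hγ e) x
    rw [← eA_add, ← eA_add]
    exact mul_mem (mul_mem (eA_fixed_mem X θ hθ hH hα) (scale_mem X θ hθ hH hβ h))
      (scale_mem X θ hθ hH hγ (sq_param_mem X θ hθ hH h))
  rw [twistedD4, genSubgroup_eq hC, Subgroup.closure_le]
  rintro g ⟨w, hw, rfl⟩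
  rcases hw with ⟨s, hs, r, hr, rfl⟩ | ⟨s, rs, hrs, rfl⟩
  · have hsf : θ s = s := by rw [hθ]; exact hs
    simp only [List.mem_cons, List.not_mem_nil, or_false] at hr
    rcases hr with rfl | rfl
    · simpa [wordGL, d4p2] using long_mem_H X θ hθ hH (r := 14) (by simp) hsf
    · simpa [wordGL, d4m2] using long_mem_H X θ hθ hH (r := 9) (by simp) hsf
  · simp only [List.mem_cons, List.not_mem_nil, or_false] at hrs
    rcases hrs with rfl | rfl
    · have e : eA θ s = wordGL hC [(d4p1, s), (d4p3, s ^ q), (d4p4, s ^ (q ^ 2))] := by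
        simp only [eA, wordGL, List.map_cons, List.map_nil, List.prod_cons, List.prod_nil, mul_one,
          mul_assoc, hθ, ← pow_mul, sq, d4p1, d4p3, d4p4]
      exact e ▸ hall s
    · have e : eN θ s = wordGL hC [(d4m1, s), (d4m3, s ^ q), (d4m4, s ^ (q ^ 2))] := by
        simp only [eN, wordGL, List.map_cons, List.map_nil, List.prod_cons, List.prod_nil, mul_one,
          mul_assoc, hθ, ← pow_mul, sq, d4m1, d4m3, d4m4]
      have h1 : eN θ s ∈ H := by
        rw [← neg_neg s, ← na_conj_A]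
        exact conj_mem (na_mem_H X θ hθ hH) (hall _)
      exact e ▸ h1

variable (hV : ∀ t, eA θ t ∈ H → θ t = t)

include hV in
/-- The unipotent elements of `H` are fixed. -/
theorem fixed_of_mem_U (hq : IsPrimePow q) {u : (GL chevD4.Idx K)} (huU : u ∈ chevD4.posUnipotent K) (hu : u ∈ H) :
    Fixed chevD4 θ u := by
  have h3 := cube θ hθ hK
  obtain ⟨b, a, c, d, e, f, hb, he, hf, rfl⟩ := exists_unip_form X θ hθ hq huU (hH.le hu)
  have h14 := long_mem_H X θ hθ hH (r := 14) (by simp) hb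
  have h22 := long_mem_H X θ hθ hH (r := 22) (by simp) he
  have h23 := long_mem_H X θ hθ hH (r := 23) (by simp) hf
  have hw : eC θ c * eD θ d * eA θ a ∈ H := by
    refine mem_of_long_mul (mul_mem (mul_mem h14 h22) h23) (one_mem H) ?_
    simpa [form, mul_assoc] using hu
  -- the conjugate of the long simple root element pins down the first coordinate
  have hT : ∀ x : K, θ (trc θ x) = trc θ x := fun x => by
    simp only [trc, map_add, h3]; ring
  have hN : θ (nrm θ a) = nrm θ a := by simp only [nrm, map_mul, h3]; ring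
  have key : ∀ {c' d' : K}, eD θ d' * eC θ c' ∈ H → θ c' = c' ∧ θ d' = d' := by
    intro c' d' hX
    have hA1 := eA_fixed_mem X θ hθ hH (map_one θ)
    have h1 : eA θ 1 * (eD θ d' * eC θ c') * eA θ (-1) ∈ H :=
      mul_mem (mul_mem hA1 hX) (eA_neg_mem X θ hθ hH hA1)
    have e0 : eA θ (1 : K) * (eD θ d' * eC θ c') * eA θ (-1) =
        (eA θ 1 * eD θ d' * eA θ (-1)) * (eA θ 1 * eC θ c' * eA θ (-1)) := by
      have h0 : eA θ (-1 : K) * eA θ 1 = 1 := by rw [eA_add, neg_add_cancel, eA_zero]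
      calc _ = eA θ 1 * eD θ d' * 1 * (eC θ c' * eA θ (-1)) := by simp only [mul_assoc, one_mul]
        _ = _ := by rw [← h0]; simp only [mul_assoc]
    rw [e0, eA_conj_D, eA_conj_C θ h3] at h1
    simp only [map_one, one_mul, mul_one] at h1
    have hE : Xr 22 (-trc θ d') ∈ H :=
      long_mem_H X θ hθ hH (by simp) (by rw [map_neg, hT])
    have hE' : Xr 22 (trc θ c') * Xr 23 (trc θ (θ c' * θ (θ c'))) ∈ H :=
      mul_mem (long_mem_H X θ hθ hH (by simp) (hT _)) (long_mem_H X θ hθ hH (by simp) (hT _))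
    -- move the two root elements of the longer pieces to the left
    obtain ⟨δ, hδ⟩ : ∃ δ, δ = -(θ (θ c') + θ c') := ⟨_, rfl⟩
    rw [← hδ] at h1
    obtain ⟨L, hL⟩ : ∃ L, L = Xr 22 (trc θ c') * Xr 23 (trc θ (θ c' * θ (θ c'))) := ⟨_, rfl⟩
    have hcomm : eD θ d' * L = L * eD θ d' := by
      rw [hL]
      exact ((Commute.mul_right (E_comm_D θ _ _).symm (F_comm_D θ _ _).symm)).eq
    have h2 : Xr 22 (-trc θ d') * L * (eD θ d' * eD θ δ * eC θ c') * 1 ∈ H := by
      have e2 : Xr 22 (-trc θ d') * L * (eD θ d' * eD θ δ * eC θ c') =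
          Xr 22 (-trc θ d') * (eD θ d' * L) * (eD θ δ * eC θ c') := by
        rw [hcomm]; simp only [mul_assoc]
      rw [mul_one, e2, hL]
      simpa only [mul_assoc] using h1
    have h4 := mem_of_long_mul (mul_mem hE (hL ▸ hE')) (one_mem H) h2
    have h5 : eD θ δ ∈ H := by
      have h6 := mul_mem h4 (inv_mem hX)
      rw [eD_add, mul_inv_rev, mul_assoc, mul_inv_cancel_left] at h6
      rw [show eD θ (d' + δ) * (eD θ d')⁻¹ = eD θ δ by
        rw [mul_inv_eq_iff_eq_mul, eD_add, add_comm]] at h6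
      exact h6
    have h6 := hV _ ((eD_mem_iff X θ hθ hH _).1 h5)
    rw [hδ, map_neg, map_add, h3, neg_inj] at h6
    have hc : θ c' = c' := by linear_combination -h6
    refine ⟨hc, hV _ ((eD_mem_iff X θ hθ hH _).1 ?_)⟩
    exact mem_of_long_mul (one_mem H) (eC_fixed_mem X θ hθ hH hc) (by rwa [one_mul])
  have haf : θ a = a := by
    have h1 : eC θ c * eD θ d * eA θ a * Xr 14 1 * (eC θ c * eD θ d * eA θ a)⁻¹ ∈ H :=
      conj_mem hw (long_mem_H X θ hθ hH (by simp) (map_one θ))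
    have ei : (eA θ a)⁻¹ = eA θ (-a) := inv_eq_of_mul_eq_one_right (by
      rw [eA_add, add_neg_cancel, eA_zero])
    have hD : Xr 17 (θ a * θ (θ a)) * Xr 20 (-(θ (θ a) * a)) * Xr 21 (-(a * θ a)) =
        eD θ (θ a * θ (θ a)) := by
      rw [eD]; simp only [map_mul, h3]
    have hCm : Xr 19 (-a) * Xr 16 (θ a) * Xr 15 (θ (θ a)) = eC θ (-a) := by
      rw [eC]; simp only [map_neg, neg_neg]
    have e1 : eC θ c * eD θ d * eA θ a * Xr 14 1 * (eC θ c * eD θ d * eA θ a)⁻¹ =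
        eC θ c * eD θ d * (eA θ a * Xr 14 1 * eA θ (-a)) * (eC θ c * eD θ d)⁻¹ := by
      rw [← ei]; group
    rw [e1, eA_conj_B θ h3] at h1
    simp only [one_mul, one_pow, mul_one] at h1
    rw [hD, hCm] at h1
    -- the middle coordinates cancel up to long root elements
    obtain ⟨x, hx⟩ : ∃ x, x = eC θ c * eD θ d := ⟨_, rfl⟩
    obtain ⟨L, hL⟩ : ∃ L, L = Xr 22 (-nrm θ a) * Xr 23 (nrm θ a) := ⟨_, rfl⟩
    obtain ⟨Y, hY⟩ : ∃ Y, Y = eD θ (θ a * θ (θ a)) * eC θ (-a) := ⟨_, rfl⟩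
    rw [← hx, ← hL, mul_assoc L, ← hY] at h1
    have hxL : x * L = L * x := by
      rw [hx, hL]
      exact ((Commute.mul_right (E_comm_C θ _ _).symm (F_comm_C θ _ _).symm).mul_left
        (Commute.mul_right (E_comm_D θ _ _).symm (F_comm_D θ _ _).symm)).eq
    have hxB : Xr 14 1 * x⁻¹ = x⁻¹ * Xr 14 1 := by
      rw [hx]
      exact (Commute.mul_right (B_comm_C θ 1 c) (B_comm_D θ 1 d)).inv_right.eq
    obtain ⟨z, hz, hzY⟩ : ∃ z : K, θ z = z ∧ x * Y = Xr 23 z * (Y * x) := by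
      refine ⟨trc θ (-a * d) - trc θ (c * (θ a * θ (θ a))), ?_, ?_⟩
      · rw [map_sub, hT, hT]
      · rw [hx, hY]; exact middle_swap θ c d _ _
    have h2 : L * Xr 23 z * Y * Xr 14 1 ∈ H := by
      have e2 : x * (L * Y * Xr 14 1) * x⁻¹ = L * Xr 23 z * Y * Xr 14 1 :=
        calc x * (L * Y * Xr 14 1) * x⁻¹ = x * L * Y * (Xr 14 1 * x⁻¹) := by simp only [mul_assoc]
          _ = L * (x * Y) * (x⁻¹ * Xr 14 1) := by rw [hxL, hxB]; simp only [mul_assoc]
          _ = L * Xr 23 z * Y * Xr 14 1 := by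
            rw [hzY]; simp only [mul_assoc, mul_inv_cancel_left]
      exact e2 ▸ h1
    have hY' : Y ∈ H := mem_of_long_mul
      (mul_mem (hL ▸ mul_mem (long_mem_H X θ hθ hH (by simp) (by rw [map_neg, hN]))
        (long_mem_H X θ hθ hH (by simp) hN)) (long_mem_H X θ hθ hH (by simp) hz))
      (long_mem_H X θ hθ hH (by simp) (map_one θ)) h2
    have := (key (hY ▸ hY')).1
    rw [map_neg, neg_inj] at this
    exact this
  have hcd : eD θ d * eC θ c ∈ H := by
    have h1 : eC θ c * eD θ d ∈ H :=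
      mem_of_long_mul (one_mem H) (eA_fixed_mem X θ hθ hH haf) (by rwa [one_mul])
    rw [eC_mul_eD, mul_assoc] at h1
    exact mem_of_long_mul (long_mem_H X θ hθ hH (r := 23) (s := -trc θ (c * d)) (by simp)
      (by rw [map_neg, hT])) (one_mem H) (by rwa [mul_one])
  obtain ⟨hcf, hdf⟩ := key hcd
  exact Fixed.mul θ (Fixed.mul θ (Fixed.mul θ (Fixed.mul θ (Fixed.mul θ (fixed_xg hC θ hb)
    (fixed_xg hC θ he)) (fixed_xg hC θ hf)) (fixed_eC θ hcf)) (fixed_eD θ hdf)) (fixed_eA θ haf)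

end Cfsg.Agent.SimpleFacts.TrialitySubfield
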