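import Cfsg.Agent.SimpleFacts.TrialitySubfield.Cover
import Cfsg.Agent.Lib.Chevalley.Twist.Simple

/-!
An element of a triality twisted group commuting with the fixed long root elements and one further
fixed element is trivial.
-/

set_option autoImplicit false
set_option linter.unusedSimpArgs false
set_option linter.unusedSectionVars false

namespace Cfsg.Agent.SimpleFacts.TrialitySubfield

open Cfsg.Lie Cfsg.Agent.Chevalley Cfsg.Agent.Chevalley.Table Cfsg.Agent.Chevalley.Cert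
  Cfsg.Agent.Chevalley.Group Cfsg.Agent.Chevalley.Unip Cfsg.Agent.Chevalley.Borel
  Cfsg.Agent.Chevalley.Weight
  Cfsg.Agent.Chevalley.Weyl Cfsg.Agent.Chevalley.NormalForm Cfsg.Agent.Chevalley.FieldAut
  Cfsg.Agent.SimpleFacts.ChevalleySubfield Cfsg.Agent.SimpleFacts.SubfieldOvergroup
  Cfsg.Agent.Chevalley.Twist Cfsg.Agent.Chevalley.Twist.D4

attribute [local irreducible] P eA eC eD eN xg

variable {K : Type*} [Field K]

local notation "Xr" => xg (F := K) hC
local notation "nb" => nL hC K [1]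
local notation "na" => nL hC K [3, 2, 0]
local notation "n0" => nL hC K [1, 3, 2, 0, 1, 3, 2, 0, 1, 3, 2, 0]

theorem form_conj_x22 (θ : K →+* K) (b a c d e f l : K) :
    form θ b a c d e f * Xr 22 l = Xr 23 (b * l) * Xr 22 l * form θ b a c d e f := by
  refine eq_of_collect ?_
  unfold form eA eC eD
  simp only [← mul_assoc, P_mul12, P_mul13, P_mul14, P_mul15, P_mul16, P_mul17, P_mul18, P_mul19, P_mul20, P_mul21, P_mul22, P_mul23]
  congr 1
  all_goals ring

theorem eq_twenty_two {β : ℕ} (hβ : β < 24) {μ ν : K} (h : Xr β μ = Xr 22 1 * Xr 23 ν) : β = 22 := by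
  rcases lt_trichotomy (Data.D4.tab.phi β) 0 with hn | hz | hp
  · exfalso
    have hU : Xr β μ ∈ chevD4.posUnipotent K := h ▸ mul_mem (mem_posU (by simp) _) (mem_posU (by simp) _)
    have h1 := U_inf_V hC hU (xg_mem_V hC (lt24 hβ) hn μ)
    rw [h] at h1
    have h2 := congrArg (P (0 : K) 0 0 0 0 0 0 0 0 0 0 0 * ·) h1
    simp only [← mul_assoc, mul_one, P_mul12, P_mul13, P_mul14, P_mul15, P_mul16, P_mul17, P_mul18, P_mul19, P_mul20, P_mul21, P_mul22, P_mul23] at h2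
    obtain ⟨-, -, -, -, -, -, -, -, -, -, k22, -⟩ := P_inj h2
    simp at k22
  · exact absurd hz (hC.phi_ne_zero (lt24 hβ))
  · have hm := pos_list β hβ hp
    have h2 := congrArg (P (0 : K) 0 0 0 0 0 0 0 0 0 0 0 * ·) h
    simp only [List.mem_cons, List.not_mem_nil, or_false] at hm
    rcases hm with rfl | rfl | rfl | rfl | rfl | rfl | rfl | rfl | rfl | rfl | rfl | rfl
    · simp only [← mul_assoc, P_mul12, P_mul13, P_mul14, P_mul15, P_mul16, P_mul17, P_mul18, P_mul19, P_mul20, P_mul21, P_mul22, P_mul23] at h2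
      obtain ⟨-, -, -, -, -, -, -, -, -, -, k22, -⟩ := P_inj h2
      simp at k22
    · simp only [← mul_assoc, P_mul12, P_mul13, P_mul14, P_mul15, P_mul16, P_mul17, P_mul18, P_mul19, P_mul20, P_mul21, P_mul22, P_mul23] at h2
      obtain ⟨-, -, -, -, -, -, -, -, -, -, k22, -⟩ := P_inj h2
      simp at k22
    · simp only [← mul_assoc, P_mul12, P_mul13, P_mul14, P_mul15, P_mul16, P_mul17, P_mul18, P_mul19, P_mul20, P_mul21, P_mul22, P_mul23] at h2
      obtain ⟨-, -, -, -, -, -, -, -, -, -, k22, -⟩ := P_inj h2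
      simp at k22
    · simp only [← mul_assoc, P_mul12, P_mul13, P_mul14, P_mul15, P_mul16, P_mul17, P_mul18, P_mul19, P_mul20, P_mul21, P_mul22, P_mul23] at h2
      obtain ⟨-, -, -, -, -, -, -, -, -, -, k22, -⟩ := P_inj h2
      simp at k22
    · simp only [← mul_assoc, P_mul12, P_mul13, P_mul14, P_mul15, P_mul16, P_mul17, P_mul18, P_mul19, P_mul20, P_mul21, P_mul22, P_mul23] at h2
      obtain ⟨-, -, -, -, -, -, -, -, -, -, k22, -⟩ := P_inj h2
      simp at k22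
    · simp only [← mul_assoc, P_mul12, P_mul13, P_mul14, P_mul15, P_mul16, P_mul17, P_mul18, P_mul19, P_mul20, P_mul21, P_mul22, P_mul23] at h2
      obtain ⟨-, -, -, -, -, -, -, -, -, -, k22, -⟩ := P_inj h2
      simp at k22
    · simp only [← mul_assoc, P_mul12, P_mul13, P_mul14, P_mul15, P_mul16, P_mul17, P_mul18, P_mul19, P_mul20, P_mul21, P_mul22, P_mul23] at h2
      obtain ⟨-, -, -, -, -, -, -, -, -, -, k22, -⟩ := P_inj h2
      simp at k22
    · simp only [← mul_assoc, P_mul12, P_mul13, P_mul14, P_mul15, P_mul16, P_mul17, P_mul18, P_mul19, P_mul20, P_mul21, P_mul22, P_mul23] at h2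
      obtain ⟨-, -, -, -, -, -, -, -, -, -, k22, -⟩ := P_inj h2
      simp at k22
    · simp only [← mul_assoc, P_mul12, P_mul13, P_mul14, P_mul15, P_mul16, P_mul17, P_mul18, P_mul19, P_mul20, P_mul21, P_mul22, P_mul23] at h2
      obtain ⟨-, -, -, -, -, -, -, -, -, -, k22, -⟩ := P_inj h2
      simp at k22
    · simp only [← mul_assoc, P_mul12, P_mul13, P_mul14, P_mul15, P_mul16, P_mul17, P_mul18, P_mul19, P_mul20, P_mul21, P_mul22, P_mul23] at h2
      obtain ⟨-, -, -, -, -, -, -, -, -, -, k22, -⟩ := P_inj h2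
      simp at k22
    · rfl
    · simp only [← mul_assoc, P_mul12, P_mul13, P_mul14, P_mul15, P_mul16, P_mul17, P_mul18, P_mul19, P_mul20, P_mul21, P_mul22, P_mul23] at h2
      obtain ⟨-, -, -, -, -, -, -, -, -, -, k22, -⟩ := P_inj h2
      simp at k22

theorem weyl_ok : chevD4.reflectRoot 0 14 = 19 ∧ chevD4.reflectRoot 2 19 = 21 ∧
    chevD4.reflectRoot 3 21 = 22 ∧ chevD4.reflectRoot 1 22 = 23 ∧ chevD4.cartan 0 14 = -1 ∧
    chevD4.cartan 2 19 = -1 ∧ chevD4.cartan 3 21 = -1 ∧ chevD4.cartan 1 22 = -1 ∧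
    chevD4.simple 0 = 18 ∧ chevD4.simple 1 = 14 ∧ chevD4.simple 2 = 13 ∧ chevD4.simple 3 = 12 ∧
    Types.GAut.tabD4a.ρ 18 = 13 ∧ Types.GAut.tabD4a.ρ 13 = 12 ∧
    Data.D4.tab.phi 22 < Data.D4.tab.phi 23 ∧
    Data.D4.tab.phi 23 < 2 * Data.D4.tab.phi 22 := by
  decide +kernel

theorem top_ok' : (∀ i ∈ [1, 3, 2, 0, 1, 3, 2, 0, 1, 3, 2, 0], i < chevD4.rank) ∧
    (∀ r < 24, 0 < Data.D4.tab.phi r →
      wL chevD4 [1, 3, 2, 0, 1, 3, 2, 0, 1, 3, 2, 0] (23 - r) = r ∧
        Data.D4.tab.phi (23 - r) < 0) ∧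
    wL chevD4 [1, 3, 2, 0, 1, 3, 2, 0, 1, 3, 2, 0] 0 = 23 ∧
    wL chevD4 [1, 3, 2, 0, 1, 3, 2, 0, 1, 3, 2, 0] 1 = 22 ∧
    (etaW [1, 3, 2, 0, 1, 3, 2, 0, 1, 3, 2, 0] 0 = 1 ∨
      etaW [1, 3, 2, 0, 1, 3, 2, 0, 1, 3, 2, 0] 0 = -1) ∧
    (etaW [1, 3, 2, 0, 1, 3, 2, 0, 1, 3, 2, 0] 1 = 1 ∨
      etaW [1, 3, 2, 0, 1, 3, 2, 0, 1, 3, 2, 0] 1 = -1) := by
  decide +kernel

theorem cartan_add_ok : ∀ i < chevD4.rank,
    chevD4.cartan i 19 = chevD4.cartan i 18 + chevD4.cartan i 14 ∧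
    chevD4.cartan i 16 = chevD4.cartan i 13 + chevD4.cartan i 14 ∧
    chevD4.cartan i 15 = chevD4.cartan i 12 + chevD4.cartan i 14 := by
  decide +kernel

theorem torChar_add (c : ℕ → Kˣ) {r s k : ℕ}
    (h : ∀ i < chevD4.rank, chevD4.cartan i k = chevD4.cartan i r + chevD4.cartan i s) :
    torChar chevD4 c k = torChar chevD4 c r * torChar chevD4 c s := by
  rw [torChar, torChar, torChar, ← Finset.prod_mul_distrib]
  exact Finset.prod_congr rfl fun i hi => by rw [h i (Finset.mem_range.1 hi), zpow_add]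

variable [Fintype K] {q : ℕ} {hK : Fintype.card K = q ^ 3}
variable (X : Setup (K := K) hK) (θ : K →+* K) (hθ : ∀ t, θ t = t ^ q) (hq : IsPrimePow q)

include X hθ hq

/-- Commuting with the two highest long root elements puts the element in the Borel subgroup. -/
theorem mem_borel {z : GL chevD4.Idx K} (hz : z ∈ twistedD4 K q) (h23 : Commute z (Xr 23 1))
    (h22 : Commute z (Xr 22 1)) : z ∈ chevD4.borelSubgroup K := by
  have hzF : z ∈ Fx X.S := by rw [Fx_eq X.O X.gen]; exact hz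
  obtain ⟨v, hv, hvF, n, hn, hnF, u, hu, huF, rfl⟩ := fixed_form X.S hzF
  have hvT : v ∈ twistedD4 K q := by rw [← Fx_eq X.O X.gen]; exact hvF
  have huT : u ∈ twistedD4 K q := by rw [← Fx_eq X.O X.gen]; exact huF
  have huU := Uminus_le_U hC n hu
  obtain ⟨b, a, c, d, e, f, -, -, -, hvf⟩ := exists_unip_form X θ hθ hq hv hvT
  obtain ⟨b', a', c', d', e', f', -, -, -, huf⟩ := exists_unip_form X θ hθ hq huU huT
  have hvx := form_conj_x22 θ b a c d e f 1
  have hux := form_conj_x22 θ b' a' c' d' e' f' 1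
  rw [← hvf, mul_one] at hvx
  rw [← huf, mul_one] at hux
  -- the monomial part fixes the highest root element
  have hn23 : n * Xr 23 1 = Xr 23 1 * n := by
    have h := h23.eq
    rw [mul_assoc (v * n), (top_central huU (1 : K)).eq, ← mul_assoc (v * n)] at h
    have h' : v * n * Xr 23 1 = Xr 23 1 * (v * n) := by
      apply mul_right_cancel (b := u)
      rw [h]; simp only [mul_assoc]
    rw [← mul_assoc, ← (top_central hv (1 : K)).eq, mul_assoc, mul_assoc] at h'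
    exact mul_left_cancel h'
  obtain ⟨t, L, hL, rfl⟩ := (mem_N_iff hC).1 hn
  obtain ⟨m, hm⟩ : ∃ m, m = tor chevD4 t * nL hC K L := ⟨_, rfl⟩
  rw [← hm] at hn23 h22 h23 hzF ⊢
  have act : ∀ r < 24, ∀ l : K, m * Xr r l * m⁻¹ =
      Xr (wL chevD4 L r) ((torChar chevD4 t (wL chevD4 L r) : K) * ((etaW L r : K) * l)) := by
    intro r hr l
    rw [hm, conj_mul_eq, nL_conj_eta hL (lt24 hr), tor_conj_x hC _ _ _ (wL_lt hC hL (lt24 hr))]
  have h23n : (23 : ℕ) < chevD4.nroots := lt24 (by decide)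
  have e23 : Xr 23 1 = Xr (wL chevD4 L 23)
      ((torChar chevD4 t (wL chevD4 L 23) : K) * ((etaW L 23 : K) * 1)) := by
    rw [← act 23 (by decide), hn23, mul_inv_cancel_right]
  have w23 : wL chevD4 L 23 = 23 := (xg_eq_xg hC h23n (wL_lt hC hL h23n) one_ne_zero e23).symm
  have hscale : ∀ l : K, m * Xr 23 l * m⁻¹ = Xr 23 l := by
    intro l
    rw [w23] at e23
    have h1 := xg_injective hC h23n e23
    rw [act 23 (by decide), w23]
    congr 1
    calc _ = (torChar chevD4 t 23 : K) * ((etaW L 23 : K) * 1) * l := by ring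
      _ = l := by rw [← h1, one_mul]
  -- and the middle long root element
  have e22 : m * Xr 22 1 * m⁻¹ = Xr 22 1 * Xr 23 (-b' + -b) := by
    have hu' : u * Xr 22 1 * u⁻¹ = Xr 23 b' * Xr 22 1 := by
      rw [hux, mul_inv_cancel_right]
    have hv' : v⁻¹ * Xr 22 1 * v = Xr 23 (-b) * Xr 22 1 := by
      have e1 : Xr 23 (-b) * (v * Xr 22 1) = Xr 22 1 * v := by
        rw [hvx, ← mul_assoc, ← mul_assoc, ← xg_add hC, neg_add_cancel, xg_zero hC, one_mul]
      have e2 : Xr 23 (-b) * v = v * Xr 23 (-b) := ((top_central hv (-b)).eq).symm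
      rw [mul_assoc, ← e1, ← mul_assoc (Xr 23 (-b)), e2]
      simp only [mul_assoc, inv_mul_cancel_left]
    have h := h22.eq
    have h' : m * (u * Xr 22 1 * u⁻¹) * m⁻¹ = v⁻¹ * Xr 22 1 * v := by
      calc m * (u * Xr 22 1 * u⁻¹) * m⁻¹ = v⁻¹ * (v * m * u * Xr 22 1) * u⁻¹ * m⁻¹ := by group
        _ = v⁻¹ * (Xr 22 1 * (v * m * u)) * u⁻¹ * m⁻¹ := by rw [h]
        _ = _ := by group
    rw [hu', hv', show m * (Xr 23 b' * Xr 22 1) * m⁻¹ =
      m * Xr 23 b' * m⁻¹ * (m * Xr 22 1 * m⁻¹) by group, hscale] at h'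
    have hc23 : ∀ y : K, Xr 23 y * Xr 22 1 = Xr 22 1 * Xr 23 y := fun y => F_comm_E y 1
    calc m * Xr 22 1 * m⁻¹ = Xr 23 (-b') * (Xr 23 b' * (m * Xr 22 1 * m⁻¹)) := by
          rw [← mul_assoc, ← xg_add hC, neg_add_cancel, xg_zero hC, one_mul]
      _ = Xr 22 1 * Xr 23 (-b' + -b) := by rw [h', ← mul_assoc, ← xg_add hC, hc23]
  have w22 : wL chevD4 L 22 = 22 := by
    rw [act 22 (by decide)] at e22
    exact eq_twenty_two (lt_of_lt_of_eq (wL_lt hC hL (lt24 (by decide))) (by decide +kernel)) e22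
  -- hence all fundamental roots stay positive
  obtain ⟨r14, r19, r21, r22, c14, c19, c21, c22, s0, s1, s2, s3, hρ18, hρ13, hphi, hphi'⟩ := weyl_ok
  have hadd := phi_wL_additive hC hL
  have a1 := hadd 0 (by decide +kernel) 14 (lt24 (by decide))
  have a2 := hadd 2 (by decide +kernel) 19 (lt24 (by decide))
  have a3 := hadd 3 (by decide +kernel) 21 (lt24 (by decide))
  have a4 := hadd 1 (by decide +kernel) 22 (lt24 (by decide))
  simp only [r14, r19, r21, r22, c14, c19, c21, c22, s0, s1, s2, s3, w22, w23] at a1 a2 a3 a4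
  have hnF' : tor chevD4 t * nL hC K L ∈ Fx X.S := hm ▸ hnF
  have p1 : 0 < Data.D4.tab.phi (wL chevD4 L 13) ↔ 0 < Data.D4.tab.phi (wL chevD4 L 18) := by
    have e := fixed_equivariant X.S hL hnF' (r := 18) (lt24 (by decide))
    rw [show X.S.ρ 18 = 13 from by rw [X.ρ_eq, hρ18]] at e
    rw [e]
    exact ρ_pos_iff X.S (wL_lt hC hL (lt24 (by decide)))
  have p2 : 0 < Data.D4.tab.phi (wL chevD4 L 12) ↔ 0 < Data.D4.tab.phi (wL chevD4 L 13) := by
    have e := fixed_equivariant X.S hL hnF' (r := 13) (lt24 (by decide))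
    rw [show X.S.ρ 13 = 12 from by rw [X.ρ_eq, hρ13]] at e
    rw [e]
    exact ρ_pos_iff X.S (wL_lt hC hL (lt24 (by decide)))
  have hpos : ∀ i < chevD4.rank, 0 < Data.D4.tab.phi (wL chevD4 L (chevD4.simple i)) := by
    intro i hi
    rw [rank4] at hi
    interval_cases i <;> simp only [s0, s1, s2, s3] <;> omega
  obtain ⟨t', ht'⟩ := exists_tor_of_pos (F := K) hC hL hpos
  have hmH : m ∈ chevD4.borelSubgroup K := Subgroup.mem_sup_right (by
    rw [hm, ht', tor_mul]; exact tor_mem_H hC _)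
  exact mul_mem (mul_mem (Subgroup.mem_sup_left hv) hmH) (Subgroup.mem_sup_left huU)

/-- The rigidity statement. -/
theorem eq_one_of_commute {z : GL chevD4.Idx K} (hz : z ∈ twistedD4 K q)
    (hlong : ∀ r ∈ longs, ∀ l : K, θ l = l → Commute z (Xr r l))
    (hstar : Commute z (eA θ 1 * Xr 14 1 * eA θ (-1))) : z = 1 := by
  have hB := mem_borel X θ hθ hq hz (hlong 23 (by simp) 1 (map_one θ))
    (hlong 22 (by simp) 1 (map_one θ))
  obtain ⟨hL0, hinv, h0, h1, he0, he1⟩ := top_ok'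
  have hn0 : n0 ∈ twistedD4 K q := by
    have hb := nb_mem X
    have ha := na_mem X
    rw [show ([1, 3, 2, 0, 1, 3, 2, 0, 1, 3, 2, 0] : List ℕ) =
      [1] ++ [3, 2, 0] ++ [1] ++ [3, 2, 0] ++ [1] ++ [3, 2, 0] from rfl, nL_append, nL_append,
      nL_append, nL_append, nL_append]
    exact mul_mem (mul_mem (mul_mem (mul_mem (mul_mem hb ha) hb) ha) hb) ha
  have hB' : n0 * z * n0⁻¹ ∈ chevD4.borelSubgroup K := by
    refine mem_borel X θ hθ hq (conj_mem hn0 hz) ?_ ?_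
    · rw [xg_of_conj hL0 (by decide) h0 he0 1]
      exact (hlong 0 (by simp) _ (by simp)).map (MulAut.conj n0).toMonoidHom
    · rw [xg_of_conj hL0 (by decide) h1 he1 1]
      exact (hlong 1 (by simp) _ (by simp)).map (MulAut.conj n0).toMonoidHom
  have hVH : z ∈ chevD4.negUnipotent K ⊔ chevD4.diagonalSubgroup K := by
    obtain ⟨u', hu', h', hh', e⟩ := (mem_B_iff hC).1 hB'
    have hle : chevD4.posUnipotent K ≤
        (chevD4.negUnipotent K).comap (MulAut.conj (n0)⁻¹).toMonoidHom := by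
      rw [U_eq_closure hC, Subgroup.closure_le]
      rintro g ⟨r, l, hr, hp, rfl⟩
      obtain ⟨e1, e2⟩ := hinv r (lt_of_lt_of_eq hr (by decide +kernel)) hp
      show n0⁻¹ * Xr r l * (n0⁻¹)⁻¹ ∈ chevD4.negUnipotent K
      have hr' : 23 - r < 24 := by omega
      obtain ⟨η, hη, hc⟩ := nL_conj_x (F := K) hC hL0 (lt24 hr')
      have e3 : Xr r l = n0 * Xr (23 - r) (η⁻¹ * l) * n0⁻¹ := by
        rw [hc, e1, mul_inv_cancel_left₀ hη]
      rw [e3]
      simpa [mul_assoc] using xg_mem_V hC (lt24 hr') e2 (η⁻¹ * l)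
    have hu'' : n0⁻¹ * u' * (n0⁻¹)⁻¹ ∈ chevD4.negUnipotent K := hle hu'
    have hh'' : n0⁻¹ * h' * (n0⁻¹)⁻¹ ∈ chevD4.diagonalSubgroup K :=
      Bruhat.H_conj hC (inv_mem (nL_mem_N hC hL0)) hh'
    rw [show z = n0⁻¹ * u' * (n0⁻¹)⁻¹ * (n0⁻¹ * h' * (n0⁻¹)⁻¹) by
      rw [show z = n0⁻¹ * (n0 * z * n0⁻¹) * n0 by group, e]; group]
    exact mul_mem (Subgroup.mem_sup_left hu'') (Subgroup.mem_sup_right hh'')
  have hT : z ∈ chevD4.diagonalSubgroup K := by
    rw [← B_inf_VH (F := K) hC]; exact ⟨hB, hVH⟩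
  obtain ⟨c, rfl⟩ := (mem_H_iff hC).1 hT
  have hlt : ∀ {r : ℕ}, r < 24 → r < chevD4.nroots := lt24
  have h14 : (torChar chevD4 c 14 : K) = 1 := by
    have h := (hlong 14 (by simp) 1 (map_one θ)).eq
    rw [← mul_inv_eq_iff_eq_mul, tor_conj_x hC _ _ _ (hlt (by decide)), mul_one] at h
    exact xg_injective hC (hlt (by decide)) h
  have h3 := cube θ hθ hK
  have hs := hstar.eq
  rw [← mul_inv_eq_iff_eq_mul] at hs
  rw [eA_conj_B θ h3] at hs
  simp only [map_one, one_mul, mul_one, one_pow] at hs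
  have hsplit : ∀ x y : GL chevD4.Idx K, tor chevD4 c * (x * y) * (tor chevD4 c)⁻¹ =
      tor chevD4 c * x * (tor chevD4 c)⁻¹ * (tor chevD4 c * y * (tor chevD4 c)⁻¹) := fun x y => by
    group
  simp only [hsplit, tor_conj_x hC _ _ _ (hlt (show 22 < 24 by decide)),
    tor_conj_x hC _ _ _ (hlt (show 23 < 24 by decide)), tor_conj_x hC _ _ _ (hlt (show 17 < 24 by decide)),
    tor_conj_x hC _ _ _ (hlt (show 20 < 24 by decide)), tor_conj_x hC _ _ _ (hlt (show 21 < 24 by decide)),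
    tor_conj_x hC _ _ _ (hlt (show 19 < 24 by decide)), tor_conj_x hC _ _ _ (hlt (show 16 < 24 by decide)),
    tor_conj_x hC _ _ _ (hlt (show 15 < 24 by decide)), tor_conj_x hC _ _ _ (hlt (show 14 < 24 by decide))]
    at hs
  have h2 := congrArg (P (0 : K) 0 0 0 0 0 0 0 0 0 0 0 * ·) hs
  simp only [← mul_assoc, P_mul12, P_mul13, P_mul14, P_mul15, P_mul16, P_mul17, P_mul18, P_mul19, P_mul20, P_mul21, P_mul22, P_mul23] at h2
  obtain ⟨-, -, -, k15, k16, -, -, k19, -, -, -, -⟩ := P_inj h2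
  have q19 := torChar_add c fun i hi => (cartan_add_ok i hi).1
  have q16 := torChar_add c fun i hi => (cartan_add_ok i hi).2.1
  have q15 := torChar_add c fun i hi => (cartan_add_ok i hi).2.2
  simp only [q19, q16, q15, Units.val_mul, h14, mul_one] at k19 k16 k15
  obtain ⟨-, -, -, -, -, -, -, -, s0, s1, s2, s3, -, -, -, -⟩ := weyl_ok
  refine tor_eq_one_of_simples hC fun i hi => ?_
  rw [rank4] at hi
  refine Units.val_eq_one.1 ?_
  interval_cases i
  · rw [s0]; linear_combination -k19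
  · rw [s1]; exact h14
  · rw [s2]; linear_combination k16
  · rw [s3]; linear_combination k15

end Cfsg.Agent.SimpleFacts.TrialitySubfield
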